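import Cfsg.Agent.Lib.PrimeGraph.FrobGroup

/-!
# Frobenius groups `F_{p^k} ⋊ C_m`, continued

General facts on `Fr C`: solvability, element orders, and, for `C` of prime order `q` and `k` the
order of `p` modulo `q`, the criticality of `Fr C` with respect to `{1, p, q}`.
-/

set_option autoImplicit false

namespace Cfsg.Agent.Lib.PrimeGraph.FrobCrit

open Cfsg.Agent.Lib.PrimeGraph.Lift Cfsg.Agent.Lib.PrimeGraph.FrobGroup

section General

variable {K : Type} [Field K] (C : Subgroup Kˣ)

theorem isSolvable_Fr : Group.IsSolvable (Fr C) := by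
  refine Group.isSolvable_of_ker_le_range (SemidirectProduct.inl : Multiplicative K →* Fr C)
    (SemidirectProduct.rightHom) ?_
  rw [SemidirectProduct.range_inl_eq_ker_rightHom]

theorem finite_Fr [Finite K] : Finite (Fr C) := by
  unfold Fr SD
  exact Finite.of_equiv _ (SemidirectProduct.equivProd).symm

theorem card_Fr [Finite K] : Nat.card (Fr C) = Nat.card K * Nat.card C := by
  have h2 : Nat.card (Fr C) = Nat.card (Multiplicative K × C) :=
    Nat.card_congr (SemidirectProduct.equivProd)
  rw [h2, Nat.card_prod]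
  congr 1

theorem range_orderOf_Fr [Finite K] (p m : ℕ) (hp : p.Prime) [CharP K p] (hC : Nat.card C = m)
    (hm : 0 < m) : Set.range (orderOf : Fr C → ℕ) = {d | d ∣ m} ∪ {p} := by
  haveI : Finite C := Nat.finite_of_card_ne_zero (by rw [hC]; exact hm.ne')
  ext x
  simp only [Set.mem_range, Set.mem_union, Set.mem_ofPred_eq, Set.mem_singleton_iff]
  constructor
  · rintro ⟨h, rfl⟩
    by_cases hc : h.right = 1
    · by_cases hl : h = 1
      · left
        rw [hl, orderOf_one]
        exact one_dvd _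
      · right
        exact orderOf_of_right_eq_one p hp h hc hl
    · left
      rw [orderOf_of_right_ne_one h hc, ← hC]
      exact orderOf_dvd_natCard _
  · rintro (hx | rfl)
    · obtain ⟨ζ, hζ⟩ := IsCyclic.exists_generator (α := C)
      have hoζ : orderOf ζ = m := by
        rw [orderOf_eq_card_of_forall_mem_zpowers hζ, hC]
      obtain ⟨t, ht⟩ := hx
      have ht0 : t ≠ 0 := by
        rintro rfl
        simp at ht
        omega
      have hoc : orderOf (ζ ^ t) = x := by
        rw [orderOf_pow_of_dvd ht0 ⟨x, by rw [hoζ, ht]; ring⟩, hoζ, ht]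
        exact Nat.mul_div_cancel _ (Nat.pos_of_ne_zero ht0)
      refine ⟨(SemidirectProduct.inr (ζ ^ t) : Fr C), ?_⟩
      rw [orderOf_injective SemidirectProduct.inr SemidirectProduct.inr_injective, hoc]
    · let h : Fr C := SemidirectProduct.inl (Multiplicative.ofAdd (1 : K))
      refine ⟨h, orderOf_of_right_eq_one x hp h rfl ?_⟩
      intro h1
      have h2 : Multiplicative.ofAdd (1 : K) = 1 :=
        SemidirectProduct.inl_injective (h1.trans (map_one SemidirectProduct.inl).symm)
      have h3 : (1 : K) = 0 := Multiplicative.ofAdd.injective h2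
      exact one_ne_zero h3

/-- The existence of the data of a Frobenius group. -/
theorem exists_field (p m k : ℕ) (hp : p.Prime) (hm : 0 < m) (hk : k ≠ 0) (hdvd : m ∣ p ^ k - 1) :
    ∃ (K : Type) (_ : Field K) (_ : Finite K) (_ : CharP K p) (C : Subgroup Kˣ),
      Nat.card K = p ^ k ∧ Nat.card C = m := by
  haveI : Fact p.Prime := ⟨hp⟩
  let K := GaloisField p k
  have hcard : Nat.card K = p ^ k := GaloisField.card p k hk
  have hp1 : 1 < p ^ k := Nat.one_lt_pow hk hp.one_lt
  obtain ⟨g, hg⟩ := IsCyclic.exists_generator (α := Kˣ)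
  have hog : orderOf g = p ^ k - 1 := by
    rw [orderOf_eq_card_of_forall_mem_zpowers hg, Nat.card_units, hcard]
  set ζ : Kˣ := g ^ ((p ^ k - 1) / m) with hζ
  have hoζ : orderOf ζ = m := by
    rw [hζ, orderOf_pow_of_dvd (Nat.div_pos (Nat.le_of_dvd (by omega) hdvd) hm).ne'
      (by rw [hog]; exact Nat.div_dvd_of_dvd hdvd), hog]
    exact Nat.div_div_self hdvd (by omega)
  exact ⟨K, inferInstance, inferInstance, inferInstance, Subgroup.zpowers ζ, hcard, by
    rw [Nat.card_zpowers, hoζ]⟩

/-- The Frobenius groups are solvable. -/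
theorem exists_frob_solvable (p m N : ℕ) (hp : p.Prime) (hm : 0 < m) (hpm : p.Coprime m) :
    ∃ (F : Type) (_ : Group F) (_ : Fintype F), Group.IsSolvable F ∧ N < Fintype.card F ∧
      Set.range (orderOf : F → ℕ) = {d | d ∣ m} ∪ {p} := by
  set k := Nat.totient m * (N + 1) with hk
  have hk0 : k ≠ 0 := by
    rw [hk]
    exact Nat.mul_ne_zero (Nat.totient_pos.2 hm).ne' (by omega)
  have hkN : N < k := by
    have : 1 ≤ Nat.totient m := Nat.totient_pos.2 hm
    nlinarith
  have hp1 : 1 < p ^ k := Nat.one_lt_pow hk0 hp.one_lt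
  have hdvd : m ∣ p ^ k - 1 := by
    have h1 : p ^ Nat.totient m ≡ 1 [MOD m] := Nat.ModEq.pow_totient hpm
    have h2 : p ^ k ≡ 1 [MOD m] := by
      rw [hk, pow_mul]
      simpa using h1.pow (N + 1)
    exact (Nat.modEq_iff_dvd' hp1.le).1 h2.symm
  obtain ⟨K, _, _, _, C, hK, hC⟩ := exists_field p m k hp hm hk0 hdvd
  haveI := finite_Fr C
  letI : Fintype (Fr C) := Fintype.ofFinite _
  refine ⟨Fr C, inferInstance, this, isSolvable_Fr C, ?_, range_orderOf_Fr C p m hp hC hm⟩
  rw [← Nat.card_eq_fintype_card, card_Fr, hK, hC]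
  have h2 : 2 ^ k ≤ p ^ k := Nat.pow_le_pow_left hp.two_le k
  have h3 : k < 2 ^ k := Nat.lt_two_pow_self
  nlinarith

end General

end Cfsg.Agent.Lib.PrimeGraph.FrobCrit
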