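import Cfsg.Agent.Lib.PrimeGraph.Lift

/-!
# Frobenius groups `F_{p^k} ⋊ C_m`

For a prime `p` and `m` coprime to `p` there are groups of arbitrarily large order whose element
orders are exactly `p` and the divisors of `m`.  We also record the element orders of direct
products.
-/

set_option autoImplicit false

namespace Cfsg.Agent.Lib.PrimeGraph.FrobGroup

open Cfsg.Agent.Lib.PrimeGraph.Lift

section Frob

variable {K : Type} [Field K] (C : Subgroup Kˣ)

/-- The action by multiplication. -/
def actC : C → K → K := fun c x => ((c : Kˣ) : K) * x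

theorem actC_one (w : K) : actC C 1 w = w := by simp [actC]

theorem actC_mul (a b : C) (w : K) : actC C (a * b) w = actC C a (actC C b w) := by
  simp [actC, mul_assoc]

theorem actC_add (s : C) (x y : K) : actC C s (x + y) = actC C s x + actC C s y := by
  simp [actC, mul_add]

/-- The Frobenius group. -/
abbrev Fr : Type := SD (actC C) (actC_one C) (actC_mul C) (actC_add C)

theorem left_pow (h : Fr C) (n : ℕ) :
    Multiplicative.toAdd (h ^ n).left =
      (∑ i ∈ Finset.range n, (((h.right : Kˣ) : K)) ^ i) * Multiplicative.toAdd h.left := by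
  induction n with
  | zero => simp
  | succ n ih =>
    rw [pow_succ', left_mul (actC C) (actC_one C) (actC_mul C) (actC_add C), ih]
    simp only [actC]
    rw [geom_sum_succ]
    ring

variable {C}

theorem orderOf_of_right_ne_one (h : Fr C) (hc : h.right ≠ 1) : orderOf h = orderOf h.right := by
  apply Nat.dvd_antisymm
  · apply orderOf_dvd_of_pow_eq_one
    apply SemidirectProduct.ext
    · apply Multiplicative.toAdd.injective
      rw [left_pow]
      have h0 : ∑ i ∈ Finset.range (orderOf h.right), (((h.right : Kˣ) : K)) ^ i = 0 := by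
        have h1 : ((h.right : Kˣ) : K) ≠ 1 := by
          intro h2
          apply hc
          apply Subtype.ext
          apply Units.ext
          simpa using h2
        have h2 := mul_geom_sum (((h.right : Kˣ) : K)) (orderOf h.right)
        have h3 : ((h.right : Kˣ) : K) ^ orderOf h.right = 1 := by
          have h4 : ((h.right : Kˣ)) ^ orderOf h.right = 1 := by
            rw [← Subgroup.coe_pow, pow_orderOf_eq_one]
            rfl
          rw [← Units.val_pow_eq_pow_val, h4]
          rfl
        rw [h3, sub_self] at h2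
        rcases mul_eq_zero.1 h2 with h5 | h5
        · exact absurd (sub_eq_zero.1 h5) h1
        · exact h5
      rw [h0, zero_mul]
      rfl
    · rw [right_pow, pow_orderOf_eq_one]
      rfl
  · exact orderOf_map_dvd (SemidirectProduct.rightHom) h

theorem orderOf_of_right_eq_one (p : ℕ) (hp : p.Prime) [CharP K p] (h : Fr C) (hc : h.right = 1)
    (hl : h ≠ 1) : orderOf h = p := by
  haveI : Fact p.Prime := ⟨hp⟩
  apply orderOf_eq_prime _ hl
  apply SemidirectProduct.ext
  · apply Multiplicative.toAdd.injective
    rw [left_pow, hc]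
    simp
  · rw [right_pow, hc, one_pow]
    rfl

end Frob

/-- The Frobenius groups. -/
theorem exists_frob (p m N : ℕ) (hp : p.Prime) (hm : 0 < m) (hpm : p.Coprime m) :
    ∃ (F : Type) (_ : Group F) (_ : Fintype F), N < Fintype.card F ∧
      Set.range (orderOf : F → ℕ) = {d | d ∣ m} ∪ {p} := by
  haveI : Fact p.Prime := ⟨hp⟩
  set k := Nat.totient m * (N + 1) with hk
  have hk0 : k ≠ 0 := by
    rw [hk]
    exact Nat.mul_ne_zero (Nat.totient_pos.2 hm).ne' (by omega)
  have hkN : N < k := by
    have : 1 ≤ Nat.totient m := Nat.totient_pos.2 hm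
    nlinarith
  let K := GaloisField p k
  haveI : Fintype K := Fintype.ofFinite K
  have hcard : Nat.card K = p ^ k := GaloisField.card p k hk0
  have hp1 : 1 < p ^ k := Nat.one_lt_pow hk0 hp.one_lt
  have hdvd : m ∣ p ^ k - 1 := by
    have h1 : p ^ Nat.totient m ≡ 1 [MOD m] := Nat.ModEq.pow_totient hpm
    have h2 : p ^ k ≡ 1 [MOD m] := by
      rw [hk, pow_mul]
      simpa using h1.pow (N + 1)
    exact (Nat.modEq_iff_dvd' hp1.le).1 h2.symm
  obtain ⟨g, hg⟩ := IsCyclic.exists_generator (α := Kˣ)
  have hog : orderOf g = p ^ k - 1 := by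
    rw [orderOf_eq_card_of_forall_mem_zpowers hg, Nat.card_units, hcard]
  set ζ : Kˣ := g ^ ((p ^ k - 1) / m) with hζ
  have hoζ : orderOf ζ = m := by
    rw [hζ, orderOf_pow_of_dvd (Nat.div_pos (Nat.le_of_dvd (by omega) hdvd) hm).ne'
      (by rw [hog]; exact Nat.div_dvd_of_dvd hdvd), hog]
    exact Nat.div_div_self hdvd (by omega)
  let C : Subgroup Kˣ := Subgroup.zpowers ζ
  have hCcard : Nat.card C = m := by
    rw [Nat.card_zpowers, hoζ]
  haveI : Finite C := Nat.finite_of_card_ne_zero (by rw [hCcard]; exact hm.ne')
  haveI : Finite (Fr C) := by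
    unfold Fr SD
    exact Finite.of_equiv _ (SemidirectProduct.equivProd).symm
  letI : Fintype (Fr C) := Fintype.ofFinite _
  refine ⟨Fr C, inferInstance, this, ?_, ?_⟩
  · have h1 : Nat.card (Fr C) = p ^ k * m := by
      have h2 : Nat.card (Fr C) = Nat.card (Multiplicative K × C) :=
        Nat.card_congr (SemidirectProduct.equivProd)
      rw [h2, Nat.card_prod, hCcard]
      congr 1
    rw [← Nat.card_eq_fintype_card, h1]
    have h2 : 2 ^ k ≤ p ^ k := Nat.pow_le_pow_left hp.two_le k
    have h3 : k < 2 ^ k := Nat.lt_two_pow_self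
    nlinarith
  · ext x
    simp only [Set.mem_range, Set.mem_union, Set.mem_ofPred_eq, Set.mem_singleton_iff]
    constructor
    · rintro ⟨h, rfl⟩
      by_cases hc : h.right = 1
      · by_cases hl : h = 1
        · left
          rw [hl, orderOf_one]
          exact one_dvd _
        · right
          exact orderOf_of_right_eq_one p hp h hc hl
      · left
        rw [orderOf_of_right_ne_one h hc, ← hCcard]
        exact orderOf_dvd_natCard _
    · rintro (hx | rfl)
      · -- an element of `C`
        obtain ⟨t, ht⟩ := hx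
        have ht0 : t ≠ 0 := by
          rintro rfl
          simp at ht
          omega
        let c : C := ⟨ζ ^ t, Subgroup.pow_mem _ (Subgroup.mem_zpowers ζ) t⟩
        have hoc : orderOf c = x := by
          have h1 : orderOf c = orderOf (ζ ^ t) := Subgroup.orderOf_mk _ _
          rw [h1, orderOf_pow_of_dvd ht0 ⟨x, by rw [hoζ, ht]; ring⟩, hoζ, ht]
          exact Nat.mul_div_cancel _ (Nat.pos_of_ne_zero ht0)
        refine ⟨(SemidirectProduct.inr c : Fr C), ?_⟩
        rw [orderOf_injective SemidirectProduct.inr SemidirectProduct.inr_injective, hoc]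
      · let h : Fr C := SemidirectProduct.inl (Multiplicative.ofAdd (1 : K))
        refine ⟨h, orderOf_of_right_eq_one x hp h rfl ?_⟩
        intro h1
        have h2 : Multiplicative.ofAdd (1 : K) = 1 :=
          SemidirectProduct.inl_injective (h1.trans (map_one SemidirectProduct.inl).symm)
        have h3 : (1 : K) = 0 := Multiplicative.ofAdd.injective h2
        exact one_ne_zero h3

section Prod

variable {A B : Type*} [Group A] [Group B]

/-- The element orders of a direct product. -/
theorem range_orderOf_prod :
    Set.range (orderOf : A × B → ℕ) =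
      Set.image2 Nat.lcm (Set.range (orderOf : A → ℕ)) (Set.range (orderOf : B → ℕ)) := by
  ext x
  constructor
  · rintro ⟨⟨a, b⟩, rfl⟩
    exact Set.mem_image2.2 ⟨_, ⟨a, rfl⟩, _, ⟨b, rfl⟩, (Prod.orderOf (a, b)).symm⟩
  · intro hx
    obtain ⟨_, ⟨a, rfl⟩, _, ⟨b, rfl⟩, rfl⟩ := Set.mem_image2.1 hx
    exact ⟨(a, b), Prod.orderOf (a, b)⟩

end Prod

end Cfsg.Agent.Lib.PrimeGraph.FrobGroup
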