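/-
Frobenius sum identities.

`A` acts on a commutative group `W` through `φ`, `F ≤ A` is normalised by `y`, and `y` acts
on `F` in the Frobenius way.  Then the elements `(f y)^i` are `c * y^i` with `c` a permutation
of `F`, which gives a trace identity used for the "element order" lemmas
(Mazurov's lemma on Frobenius sections).
-/
import Mathlib

set_option autoImplicit false

namespace Cfsg.Agent.Lib.PrimeGraph.FrobSum

variable {A W : Type*} [Group A] [CommGroup W]

theorem conj_pow_mem (F : Subgroup A) (y : A) (hy : ∀ a ∈ F, y * a * y⁻¹ ∈ F) (j : ℕ) :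
    ∀ a ∈ F, y ^ j * a * (y ^ j)⁻¹ ∈ F := by
  induction j with
  | zero => intro a ha; simpa using ha
  | succ j ih =>
    intro a ha
    have := ih _ (hy a ha)
    have e : y ^ (j + 1) * a * (y ^ (j + 1))⁻¹ = y ^ j * (y * a * y⁻¹) * (y ^ j)⁻¹ := by
      rw [pow_succ]; group
    rw [e]; exact this

/-- the commutator map `a ↦ a * (z a⁻¹ z⁻¹)` on a subgroup normalised by `z`. -/
def cmap (F : Subgroup A) (z : A) (hz : ∀ a ∈ F, z * a * z⁻¹ ∈ F) (a : F) : F :=
  ⟨(a : A) * (z * (a : A)⁻¹ * z⁻¹), F.mul_mem a.2 (hz _ (F.inv_mem a.2))⟩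

theorem cmap_injective (F : Subgroup A) (z : A) (hz : ∀ a ∈ F, z * a * z⁻¹ ∈ F)
    (h : ∀ a ∈ F, z * a * z⁻¹ = a → a = 1) : Function.Injective (cmap F z hz) := by
  intro a b hab
  have h0 : (a : A) * (z * (a : A)⁻¹ * z⁻¹) = (b : A) * (z * (b : A)⁻¹ * z⁻¹) :=
    congrArg Subtype.val hab
  have h1 : z * ((b : A)⁻¹ * a) * z⁻¹ = (b : A)⁻¹ * a := by
    have : (b : A)⁻¹ * a = (z * (b : A)⁻¹ * z⁻¹) * (z * (a : A) * z⁻¹) := by
      have h2 : (a : A) = (b : A) * (z * (b : A)⁻¹ * z⁻¹) * (z * (a : A) * z⁻¹) := by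
        rw [← h0]; group
      calc (b : A)⁻¹ * a = (b : A)⁻¹ * ((b : A) * (z * (b : A)⁻¹ * z⁻¹) * (z * (a : A) * z⁻¹)) := by
            rw [← h2]
        _ = _ := by group
    calc z * ((b : A)⁻¹ * a) * z⁻¹ = (z * (b : A)⁻¹ * z⁻¹) * (z * (a : A) * z⁻¹) := by group
      _ = (b : A)⁻¹ * a := this.symm
  have := h _ (F.mul_mem (F.inv_mem b.2) a.2) h1
  apply Subtype.ext
  calc (a : A) = b * ((b : A)⁻¹ * a) := by group
    _ = b := by rw [this, mul_one]

theorem mul_eq_conj (F : Subgroup A) (z : A) (hz : ∀ a ∈ F, z * a * z⁻¹ ∈ F) (a : F) :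
    ((cmap F z hz a : F) : A) * z = a * z * (a : A)⁻¹ := by
  simp only [cmap]; group

/-- The key bijection: `(f y)^i = σ f * y^i` with `σ` a permutation of `F`. -/
theorem exists_perm_pow (F : Subgroup A) [Finite F] (y : A) (hy : ∀ a ∈ F, y * a * y⁻¹ ∈ F)
    (h1 : ∀ a ∈ F, y * a * y⁻¹ = a → a = 1) (i : ℕ)
    (hi : ∀ a ∈ F, y ^ i * a * (y ^ i)⁻¹ = a → a = 1) :
    ∃ σ : F ≃ F, ∀ f : F, ((f : A) * y) ^ i = (σ f : A) * y ^ i := by
  have hyi := conj_pow_mem F y hy i
  have b1 : Function.Bijective (cmap F y hy) :=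
    Finite.injective_iff_bijective.mp (cmap_injective F y hy h1)
  have bi : Function.Bijective (cmap F (y ^ i) hyi) :=
    Finite.injective_iff_bijective.mp (cmap_injective F (y ^ i) hyi hi)
  let e1 := Equiv.ofBijective _ b1
  let ei := Equiv.ofBijective _ bi
  refine ⟨e1.symm.trans ei, fun f => ?_⟩
  obtain ⟨a, rfl⟩ := e1.surjective f
  have : (e1.symm.trans ei) (e1 a) = cmap F (y ^ i) hyi a := by simp [ei]
  rw [this, mul_eq_conj]
  have e : ((e1 a : F) : A) * y = a * y * (a : A)⁻¹ := mul_eq_conj F y hy a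
  rw [e]
  have : ∀ j : ℕ, ((a : A) * y * (a : A)⁻¹) ^ j = a * y ^ j * (a : A)⁻¹ := by
    intro j
    have := conj_pow (a := (a : A)) (b := y) (i := j)
    exact this
  rw [this]

/-- The trace identity. -/
theorem trace_identity (φ : A →* MulAut W) (F : Subgroup A) [Fintype F] (y : A) (n : ℕ)
    (hn : 0 < n) (hy : ∀ a ∈ F, y * a * y⁻¹ ∈ F)
    (h1 : ∀ a ∈ F, y * a * y⁻¹ = a → a = 1)
    (hfpf : ∀ i, 0 < i → i < n → ∀ a ∈ F, y ^ i * a * (y ^ i)⁻¹ = a → a = 1)
    (hN : ∀ f ∈ F, ∀ w : W, ∏ i ∈ Finset.range n, φ ((f * y) ^ i) w = 1) (w : W) :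
    w ^ (Fintype.card F) * ∏ i ∈ Finset.Ico 1 n, ∏ c : F, φ (c : A) (φ (y ^ i) w) = 1 := by
  have h0 : ∏ f : F, ∏ i ∈ Finset.range n, φ (((f : A) * y) ^ i) w = 1 :=
    Finset.prod_eq_one fun f _ => hN f f.2 w
  rw [Finset.prod_comm] at h0
  rw [← h0, Finset.range_eq_Ico, Finset.prod_eq_prod_Ico_succ_bot hn]
  congr 1
  · simp
  · apply Finset.prod_congr rfl
    intro i hi
    obtain ⟨hi1, hi2⟩ := Finset.mem_Ico.mp hi
    obtain ⟨σ, hσ⟩ := exists_perm_pow F y hy h1 i (hfpf i hi1 hi2)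
    rw [← Equiv.prod_comp σ]
    apply Finset.prod_congr rfl
    intro f _
    rw [hσ f, map_mul]
    rfl

theorem trace_fixed (φ : A →* MulAut W) (F : Subgroup A) [Fintype F] (u : W) (d : A) (hd : d ∈ F) :
    φ d (∏ c : F, φ (c : A) u) = ∏ c : F, φ (c : A) u := by
  rw [map_prod]
  calc ∏ c : F, φ d (φ (c : A) u)
      = ∏ c : F, φ ((Equiv.mulLeft (⟨d, hd⟩ : F) c : F) : A) u := by
        apply Finset.prod_congr rfl
        intro c _
        simp [map_mul]
    _ = ∏ c : F, φ (c : A) u := Equiv.prod_comp _ (fun c : F => φ (c : A) u)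

theorem norm_fixed (φ : A →* MulAut W) (x : A) (n : ℕ) (hx : x ^ n = 1) (w : W) :
    φ x (∏ i ∈ Finset.range n, φ (x ^ i) w) = ∏ i ∈ Finset.range n, φ (x ^ i) w := by
  rw [map_prod]
  have h1 := Finset.prod_range_succ (fun i => φ (x ^ i) w) n
  have h2 := Finset.prod_range_succ' (fun i => φ (x ^ i) w) n
  rw [h1] at h2
  simp only [hx, map_one, pow_zero, MulAut.one_apply] at h2
  have h3 := mul_right_cancel h2
  rw [h3]
  apply Finset.prod_congr rfl
  intro i _
  rw [pow_succ', map_mul]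
  rfl

/-- The prime-order case of the Frobenius sum. -/
theorem pow_card_eq_one_of_fpf (φ : A →* MulAut W) (F : Subgroup A) [Finite F] (y : A) (r : ℕ)
    (hr : r.Prime) (hyr : y ^ r = 1) (hy : ∀ a ∈ F, y * a * y⁻¹ ∈ F)
    (hF1 : ∃ a ∈ F, a ≠ 1)
    (h1 : ∀ a ∈ F, a ≠ 1 → ∀ v : W, φ a v = v → v = 1)
    (h2 : ∀ a ∈ F, y * a * y⁻¹ = a → a = 1)
    (h3 : ∀ v : W, φ y v = v → v = 1) (w : W) : w ^ (Nat.card F) = 1 := by
  classical
  haveI := Fintype.ofFinite F
  have hfpf : ∀ i, 0 < i → i < r → ∀ a ∈ F, y ^ i * a * (y ^ i)⁻¹ = a → a = 1 := by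
    intro i hi0 hir a ha hc
    have hco : Nat.Coprime i (orderOf y) := by
      have : Nat.Coprime i r := Nat.Coprime.symm ((Nat.Prime.coprime_iff_not_dvd hr).mpr
        (fun hd => absurd (Nat.le_of_dvd hi0 hd) (not_le.mpr hir)))
      exact Nat.Coprime.coprime_dvd_right (orderOf_dvd_of_pow_eq_one hyr) this
    obtain ⟨m, hm⟩ := exists_pow_eq_self_of_coprime hco
    apply h2 a ha
    have hcomm : Commute (y ^ i) a := by
      show y ^ i * a = a * y ^ i
      have : y ^ i * a = (y ^ i * a * (y ^ i)⁻¹) * y ^ i := by group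
      rw [this, hc]
    have hcomm2 : Commute y a := by
      have := hcomm.pow_left m
      rwa [hm] at this
    have : y * a = a * y := hcomm2
    rw [this]; group
  have hN : ∀ f ∈ F, ∀ w : W, ∏ i ∈ Finset.range r, φ ((f * y) ^ i) w = 1 := by
    intro f hf w
    -- `f y` is conjugate to `y`
    have b1 : Function.Bijective (cmap F y hy) :=
      Finite.injective_iff_bijective.mp (cmap_injective F y hy h2)
    obtain ⟨a, ha⟩ := b1.2 ⟨f, hf⟩
    have e : f * y = a * y * (a : A)⁻¹ := by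
      have := mul_eq_conj F y hy a
      rw [ha] at this
      exact this
    have hx : (f * y) ^ r = 1 := by
      rw [e, conj_pow, hyr]; group
    apply_fun (φ (f * y)) using (MulEquiv.injective _)
    rw [map_one]
    have hfix := norm_fixed φ (f * y) r hx w
    -- `f y` acts without fixed points
    have hfpfx : ∀ v : W, φ (f * y) v = v → v = 1 := by
      intro v hv
      have hv2 : φ y (φ ((a : A)⁻¹) v) = φ ((a : A)⁻¹) v := by
        rw [e] at hv
        have e2 : φ y (φ ((a : A)⁻¹) v) = φ ((a : A)⁻¹) (φ ((a : A) * y * (a : A)⁻¹) v) := by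
          rw [← MulAut.mul_apply, ← MulAut.mul_apply, ← map_mul, ← map_mul]
          congr 2
          group
        rw [e2, hv]
      have := h3 _ hv2
      have h5 : φ ((a : A)) (φ ((a : A)⁻¹) v) = φ (a : A) 1 := by rw [this]
      simpa using h5
    rw [hfpfx _ hfix]
    simp
  have htr := trace_identity φ F y r hr.pos hy h2 hfpf hN w
  have hT : ∀ u : W, ∏ c : F, φ (c : A) u = 1 := by
    intro u
    obtain ⟨d, hd, hd1⟩ := hF1
    exact h1 d hd hd1 _ (trace_fixed φ F u d hd)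
  simp only [hT, Finset.prod_const_one, mul_one] at htr
  rwa [Nat.card_eq_fintype_card]

end Cfsg.Agent.Lib.PrimeGraph.FrobSum
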