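import Mathlib

/-!
# A concrete field with sixteen elements (fast in the kernel)

Elements are the polynomials over the field with two elements modulo `x⁴ + x + 1`; the constructor `c n` stands
for the polynomial whose coefficients are the binary digits of `n`.
-/

set_option autoImplicit false

namespace Cfsg.Agent.Lib.PrimeGraph.K16Field

/-- The field with sixteen elements. -/
inductive K16
  | c0 | c1 | c2 | c3 | c4 | c5 | c6 | c7 | c8 | c9 | c10 | c11 | c12 | c13 | c14 | c15
  deriving DecidableEq, Repr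

namespace K16

instance : Fintype K16 := ⟨{c0, c1, c2, c3, c4, c5, c6, c7, c8, c9, c10, c11, c12, c13, c14, c15}, by intro x; cases x <;> decide⟩

/-- Addition table, row 0. -/
def addR0 : K16 → K16
  | c0 => c0
  | c1 => c1
  | c2 => c2
  | c3 => c3
  | c4 => c4
  | c5 => c5
  | c6 => c6
  | c7 => c7
  | c8 => c8
  | c9 => c9
  | c10 => c10
  | c11 => c11
  | c12 => c12
  | c13 => c13
  | c14 => c14
  | c15 => c15

/-- Addition table, row 1. -/
def addR1 : K16 → K16
  | c0 => c1
  | c1 => c0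
  | c2 => c3
  | c3 => c2
  | c4 => c5
  | c5 => c4
  | c6 => c7
  | c7 => c6
  | c8 => c9
  | c9 => c8
  | c10 => c11
  | c11 => c10
  | c12 => c13
  | c13 => c12
  | c14 => c15
  | c15 => c14

/-- Addition table, row 2. -/
def addR2 : K16 → K16
  | c0 => c2
  | c1 => c3
  | c2 => c0
  | c3 => c1
  | c4 => c6
  | c5 => c7
  | c6 => c4
  | c7 => c5
  | c8 => c10
  | c9 => c11
  | c10 => c8
  | c11 => c9
  | c12 => c14
  | c13 => c15
  | c14 => c12
  | c15 => c13

/-- Addition table, row 3. -/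
def addR3 : K16 → K16
  | c0 => c3
  | c1 => c2
  | c2 => c1
  | c3 => c0
  | c4 => c7
  | c5 => c6
  | c6 => c5
  | c7 => c4
  | c8 => c11
  | c9 => c10
  | c10 => c9
  | c11 => c8
  | c12 => c15
  | c13 => c14
  | c14 => c13
  | c15 => c12

/-- Addition table, row 4. -/
def addR4 : K16 → K16
  | c0 => c4
  | c1 => c5
  | c2 => c6
  | c3 => c7
  | c4 => c0
  | c5 => c1
  | c6 => c2
  | c7 => c3
  | c8 => c12
  | c9 => c13
  | c10 => c14
  | c11 => c15
  | c12 => c8
  | c13 => c9
  | c14 => c10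
  | c15 => c11

/-- Addition table, row 5. -/
def addR5 : K16 → K16
  | c0 => c5
  | c1 => c4
  | c2 => c7
  | c3 => c6
  | c4 => c1
  | c5 => c0
  | c6 => c3
  | c7 => c2
  | c8 => c13
  | c9 => c12
  | c10 => c15
  | c11 => c14
  | c12 => c9
  | c13 => c8
  | c14 => c11
  | c15 => c10

/-- Addition table, row 6. -/
def addR6 : K16 → K16
  | c0 => c6
  | c1 => c7
  | c2 => c4
  | c3 => c5
  | c4 => c2
  | c5 => c3
  | c6 => c0
  | c7 => c1
  | c8 => c14
  | c9 => c15
  | c10 => c12
  | c11 => c13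
  | c12 => c10
  | c13 => c11
  | c14 => c8
  | c15 => c9

/-- Addition table, row 7. -/
def addR7 : K16 → K16
  | c0 => c7
  | c1 => c6
  | c2 => c5
  | c3 => c4
  | c4 => c3
  | c5 => c2
  | c6 => c1
  | c7 => c0
  | c8 => c15
  | c9 => c14
  | c10 => c13
  | c11 => c12
  | c12 => c11
  | c13 => c10
  | c14 => c9
  | c15 => c8

/-- Addition table, row 8. -/
def addR8 : K16 → K16
  | c0 => c8
  | c1 => c9
  | c2 => c10
  | c3 => c11
  | c4 => c12
  | c5 => c13
  | c6 => c14
  | c7 => c15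
  | c8 => c0
  | c9 => c1
  | c10 => c2
  | c11 => c3
  | c12 => c4
  | c13 => c5
  | c14 => c6
  | c15 => c7

/-- Addition table, row 9. -/
def addR9 : K16 → K16
  | c0 => c9
  | c1 => c8
  | c2 => c11
  | c3 => c10
  | c4 => c13
  | c5 => c12
  | c6 => c15
  | c7 => c14
  | c8 => c1
  | c9 => c0
  | c10 => c3
  | c11 => c2
  | c12 => c5
  | c13 => c4
  | c14 => c7
  | c15 => c6

/-- Addition table, row 10. -/
def addR10 : K16 → K16
  | c0 => c10
  | c1 => c11
  | c2 => c8
  | c3 => c9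
  | c4 => c14
  | c5 => c15
  | c6 => c12
  | c7 => c13
  | c8 => c2
  | c9 => c3
  | c10 => c0
  | c11 => c1
  | c12 => c6
  | c13 => c7
  | c14 => c4
  | c15 => c5

/-- Addition table, row 11. -/
def addR11 : K16 → K16
  | c0 => c11
  | c1 => c10
  | c2 => c9
  | c3 => c8
  | c4 => c15
  | c5 => c14
  | c6 => c13
  | c7 => c12
  | c8 => c3
  | c9 => c2
  | c10 => c1
  | c11 => c0
  | c12 => c7
  | c13 => c6
  | c14 => c5
  | c15 => c4

/-- Addition table, row 12. -/
def addR12 : K16 → K16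
  | c0 => c12
  | c1 => c13
  | c2 => c14
  | c3 => c15
  | c4 => c8
  | c5 => c9
  | c6 => c10
  | c7 => c11
  | c8 => c4
  | c9 => c5
  | c10 => c6
  | c11 => c7
  | c12 => c0
  | c13 => c1
  | c14 => c2
  | c15 => c3

/-- Addition table, row 13. -/
def addR13 : K16 → K16
  | c0 => c13
  | c1 => c12
  | c2 => c15
  | c3 => c14
  | c4 => c9
  | c5 => c8
  | c6 => c11
  | c7 => c10
  | c8 => c5
  | c9 => c4
  | c10 => c7
  | c11 => c6
  | c12 => c1
  | c13 => c0
  | c14 => c3
  | c15 => c2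

/-- Addition table, row 14. -/
def addR14 : K16 → K16
  | c0 => c14
  | c1 => c15
  | c2 => c12
  | c3 => c13
  | c4 => c10
  | c5 => c11
  | c6 => c8
  | c7 => c9
  | c8 => c6
  | c9 => c7
  | c10 => c4
  | c11 => c5
  | c12 => c2
  | c13 => c3
  | c14 => c0
  | c15 => c1

/-- Addition table, row 15. -/
def addR15 : K16 → K16
  | c0 => c15
  | c1 => c14
  | c2 => c13
  | c3 => c12
  | c4 => c11
  | c5 => c10
  | c6 => c9
  | c7 => c8
  | c8 => c7
  | c9 => c6
  | c10 => c5
  | c11 => c4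
  | c12 => c3
  | c13 => c2
  | c14 => c1
  | c15 => c0

/-- Addition. -/
def add : K16 → K16 → K16
  | c0 => addR0
  | c1 => addR1
  | c2 => addR2
  | c3 => addR3
  | c4 => addR4
  | c5 => addR5
  | c6 => addR6
  | c7 => addR7
  | c8 => addR8
  | c9 => addR9
  | c10 => addR10
  | c11 => addR11
  | c12 => addR12
  | c13 => addR13
  | c14 => addR14
  | c15 => addR15

/-- Multiplication table, row 0. -/
def mulR0 : K16 → K16
  | c0 => c0
  | c1 => c0
  | c2 => c0
  | c3 => c0
  | c4 => c0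
  | c5 => c0
  | c6 => c0
  | c7 => c0
  | c8 => c0
  | c9 => c0
  | c10 => c0
  | c11 => c0
  | c12 => c0
  | c13 => c0
  | c14 => c0
  | c15 => c0

/-- Multiplication table, row 1. -/
def mulR1 : K16 → K16
  | c0 => c0
  | c1 => c1
  | c2 => c2
  | c3 => c3
  | c4 => c4
  | c5 => c5
  | c6 => c6
  | c7 => c7
  | c8 => c8
  | c9 => c9
  | c10 => c10
  | c11 => c11
  | c12 => c12
  | c13 => c13
  | c14 => c14
  | c15 => c15

/-- Multiplication table, row 2. -/
def mulR2 : K16 → K16
  | c0 => c0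
  | c1 => c2
  | c2 => c4
  | c3 => c6
  | c4 => c8
  | c5 => c10
  | c6 => c12
  | c7 => c14
  | c8 => c3
  | c9 => c1
  | c10 => c7
  | c11 => c5
  | c12 => c11
  | c13 => c9
  | c14 => c15
  | c15 => c13

/-- Multiplication table, row 3. -/
def mulR3 : K16 → K16
  | c0 => c0
  | c1 => c3
  | c2 => c6
  | c3 => c5
  | c4 => c12
  | c5 => c15
  | c6 => c10
  | c7 => c9
  | c8 => c11
  | c9 => c8
  | c10 => c13
  | c11 => c14
  | c12 => c7
  | c13 => c4
  | c14 => c1
  | c15 => c2

/-- Multiplication table, row 4. -/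
def mulR4 : K16 → K16
  | c0 => c0
  | c1 => c4
  | c2 => c8
  | c3 => c12
  | c4 => c3
  | c5 => c7
  | c6 => c11
  | c7 => c15
  | c8 => c6
  | c9 => c2
  | c10 => c14
  | c11 => c10
  | c12 => c5
  | c13 => c1
  | c14 => c13
  | c15 => c9

/-- Multiplication table, row 5. -/
def mulR5 : K16 → K16
  | c0 => c0
  | c1 => c5
  | c2 => c10
  | c3 => c15
  | c4 => c7
  | c5 => c2
  | c6 => c13
  | c7 => c8
  | c8 => c14
  | c9 => c11
  | c10 => c4
  | c11 => c1
  | c12 => c9
  | c13 => c12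
  | c14 => c3
  | c15 => c6

/-- Multiplication table, row 6. -/
def mulR6 : K16 → K16
  | c0 => c0
  | c1 => c6
  | c2 => c12
  | c3 => c10
  | c4 => c11
  | c5 => c13
  | c6 => c7
  | c7 => c1
  | c8 => c5
  | c9 => c3
  | c10 => c9
  | c11 => c15
  | c12 => c14
  | c13 => c8
  | c14 => c2
  | c15 => c4

/-- Multiplication table, row 7. -/
def mulR7 : K16 → K16
  | c0 => c0
  | c1 => c7
  | c2 => c14
  | c3 => c9
  | c4 => c15
  | c5 => c8
  | c6 => c1
  | c7 => c6
  | c8 => c13
  | c9 => c10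
  | c10 => c3
  | c11 => c4
  | c12 => c2
  | c13 => c5
  | c14 => c12
  | c15 => c11

/-- Multiplication table, row 8. -/
def mulR8 : K16 → K16
  | c0 => c0
  | c1 => c8
  | c2 => c3
  | c3 => c11
  | c4 => c6
  | c5 => c14
  | c6 => c5
  | c7 => c13
  | c8 => c12
  | c9 => c4
  | c10 => c15
  | c11 => c7
  | c12 => c10
  | c13 => c2
  | c14 => c9
  | c15 => c1

/-- Multiplication table, row 9. -/
def mulR9 : K16 → K16
  | c0 => c0
  | c1 => c9
  | c2 => c1
  | c3 => c8
  | c4 => c2
  | c5 => c11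
  | c6 => c3
  | c7 => c10
  | c8 => c4
  | c9 => c13
  | c10 => c5
  | c11 => c12
  | c12 => c6
  | c13 => c15
  | c14 => c7
  | c15 => c14

/-- Multiplication table, row 10. -/
def mulR10 : K16 → K16
  | c0 => c0
  | c1 => c10
  | c2 => c7
  | c3 => c13
  | c4 => c14
  | c5 => c4
  | c6 => c9
  | c7 => c3
  | c8 => c15
  | c9 => c5
  | c10 => c8
  | c11 => c2
  | c12 => c1
  | c13 => c11
  | c14 => c6
  | c15 => c12

/-- Multiplication table, row 11. -/
def mulR11 : K16 → K16
  | c0 => c0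
  | c1 => c11
  | c2 => c5
  | c3 => c14
  | c4 => c10
  | c5 => c1
  | c6 => c15
  | c7 => c4
  | c8 => c7
  | c9 => c12
  | c10 => c2
  | c11 => c9
  | c12 => c13
  | c13 => c6
  | c14 => c8
  | c15 => c3

/-- Multiplication table, row 12. -/
def mulR12 : K16 → K16
  | c0 => c0
  | c1 => c12
  | c2 => c11
  | c3 => c7
  | c4 => c5
  | c5 => c9
  | c6 => c14
  | c7 => c2
  | c8 => c10
  | c9 => c6
  | c10 => c1
  | c11 => c13
  | c12 => c15
  | c13 => c3
  | c14 => c4
  | c15 => c8

/-- Multiplication table, row 13. -/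
def mulR13 : K16 → K16
  | c0 => c0
  | c1 => c13
  | c2 => c9
  | c3 => c4
  | c4 => c1
  | c5 => c12
  | c6 => c8
  | c7 => c5
  | c8 => c2
  | c9 => c15
  | c10 => c11
  | c11 => c6
  | c12 => c3
  | c13 => c14
  | c14 => c10
  | c15 => c7

/-- Multiplication table, row 14. -/
def mulR14 : K16 → K16
  | c0 => c0
  | c1 => c14
  | c2 => c15
  | c3 => c1
  | c4 => c13
  | c5 => c3
  | c6 => c2
  | c7 => c12
  | c8 => c9
  | c9 => c7
  | c10 => c6
  | c11 => c8
  | c12 => c4
  | c13 => c10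
  | c14 => c11
  | c15 => c5

/-- Multiplication table, row 15. -/
def mulR15 : K16 → K16
  | c0 => c0
  | c1 => c15
  | c2 => c13
  | c3 => c2
  | c4 => c9
  | c5 => c6
  | c6 => c4
  | c7 => c11
  | c8 => c1
  | c9 => c14
  | c10 => c12
  | c11 => c3
  | c12 => c8
  | c13 => c7
  | c14 => c5
  | c15 => c10

/-- Multiplication. -/
def mul : K16 → K16 → K16
  | c0 => mulR0
  | c1 => mulR1
  | c2 => mulR2
  | c3 => mulR3
  | c4 => mulR4
  | c5 => mulR5
  | c6 => mulR6
  | c7 => mulR7
  | c8 => mulR8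
  | c9 => mulR9
  | c10 => mulR10
  | c11 => mulR11
  | c12 => mulR12
  | c13 => mulR13
  | c14 => mulR14
  | c15 => mulR15

/-- Inverse. -/
def inv : K16 → K16
  | c0 => c0
  | c1 => c1
  | c2 => c9
  | c3 => c14
  | c4 => c13
  | c5 => c11
  | c6 => c7
  | c7 => c6
  | c8 => c15
  | c9 => c2
  | c10 => c12
  | c11 => c5
  | c12 => c10
  | c13 => c4
  | c14 => c3
  | c15 => c8

/-- The Frobenius `x ↦ x ^ 4`. -/
def fr : K16 → K16
  | c0 => c0
  | c1 => c1
  | c2 => c3
  | c3 => c2
  | c4 => c5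
  | c5 => c4
  | c6 => c6
  | c7 => c7
  | c8 => c15
  | c9 => c14
  | c10 => c12
  | c11 => c13
  | c12 => c10
  | c13 => c11
  | c14 => c9
  | c15 => c8


instance : Zero K16 := ⟨c0⟩
instance : One K16 := ⟨c1⟩
instance : Add K16 := ⟨add⟩
instance : Neg K16 := ⟨id⟩
instance : Mul K16 := ⟨mul⟩
instance : Inv K16 := ⟨inv⟩

instance instCommRing : CommRing K16 where
  add_assoc := by decide +kernel
  zero_add := by decide +kernel
  add_zero := by decide +kernel
  add_comm := by decide +kernel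
  neg_add_cancel := by decide +kernel
  mul_assoc := by decide +kernel
  one_mul := by decide +kernel
  mul_one := by decide +kernel
  mul_comm := by decide +kernel
  left_distrib := by decide +kernel
  right_distrib := by decide +kernel
  zero_mul := by decide +kernel
  mul_zero := by decide +kernel
  nsmul := nsmulRec
  zsmul := zsmulRec

instance instField : Field K16 where
  exists_pair_ne := ⟨0, 1, by decide⟩
  mul_inv_cancel := by decide +kernel
  inv_zero := by decide
  nnqsmul := _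
  qsmul := _

theorem card_eq : Fintype.card K16 = 16 := by decide

theorem add_self (x : K16) : x + x = 0 := by
  revert x; decide

theorem fr_eq : ∀ x : K16, x ^ 4 = fr x := by decide +kernel

theorem fr_add : ∀ x y : K16, fr (x + y) = fr x + fr y := by decide +kernel

theorem fr_mul : ∀ x y : K16, fr (x * y) = fr x * fr y := by decide +kernel

theorem fr_fr : ∀ x : K16, fr (fr x) = x := by decide +kernel

end K16

end Cfsg.Agent.Lib.PrimeGraph.K16Field
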