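import Mathlib

/-!
# A concrete field with eight elements (fast in the kernel)

Elements are the polynomials over the field with two elements modulo `x³ + x + 1`; the constructor `c n` stands
for the polynomial whose coefficients are the binary digits of `n`.
-/

set_option autoImplicit false

namespace Cfsg.Agent.Lib.PrimeGraph.K8Field

/-- The field with eight elements. -/
inductive K8
  | c0 | c1 | c2 | c3 | c4 | c5 | c6 | c7
  deriving DecidableEq, Repr

namespace K8

instance : Fintype K8 := ⟨{c0, c1, c2, c3, c4, c5, c6, c7}, by intro x; cases x <;> decide⟩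

/-- Addition table, row 0. -/
def addR0 : K8 → K8
  | c0 => c0
  | c1 => c1
  | c2 => c2
  | c3 => c3
  | c4 => c4
  | c5 => c5
  | c6 => c6
  | c7 => c7

/-- Addition table, row 1. -/
def addR1 : K8 → K8
  | c0 => c1
  | c1 => c0
  | c2 => c3
  | c3 => c2
  | c4 => c5
  | c5 => c4
  | c6 => c7
  | c7 => c6

/-- Addition table, row 2. -/
def addR2 : K8 → K8
  | c0 => c2
  | c1 => c3
  | c2 => c0
  | c3 => c1
  | c4 => c6
  | c5 => c7
  | c6 => c4
  | c7 => c5

/-- Addition table, row 3. -/
def addR3 : K8 → K8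
  | c0 => c3
  | c1 => c2
  | c2 => c1
  | c3 => c0
  | c4 => c7
  | c5 => c6
  | c6 => c5
  | c7 => c4

/-- Addition table, row 4. -/
def addR4 : K8 → K8
  | c0 => c4
  | c1 => c5
  | c2 => c6
  | c3 => c7
  | c4 => c0
  | c5 => c1
  | c6 => c2
  | c7 => c3

/-- Addition table, row 5. -/
def addR5 : K8 → K8
  | c0 => c5
  | c1 => c4
  | c2 => c7
  | c3 => c6
  | c4 => c1
  | c5 => c0
  | c6 => c3
  | c7 => c2

/-- Addition table, row 6. -/
def addR6 : K8 → K8
  | c0 => c6
  | c1 => c7
  | c2 => c4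
  | c3 => c5
  | c4 => c2
  | c5 => c3
  | c6 => c0
  | c7 => c1

/-- Addition table, row 7. -/
def addR7 : K8 → K8
  | c0 => c7
  | c1 => c6
  | c2 => c5
  | c3 => c4
  | c4 => c3
  | c5 => c2
  | c6 => c1
  | c7 => c0

/-- Addition. -/
def add : K8 → K8 → K8
  | c0 => addR0
  | c1 => addR1
  | c2 => addR2
  | c3 => addR3
  | c4 => addR4
  | c5 => addR5
  | c6 => addR6
  | c7 => addR7

/-- Multiplication table, row 0. -/
def mulR0 : K8 → K8
  | c0 => c0
  | c1 => c0
  | c2 => c0
  | c3 => c0
  | c4 => c0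
  | c5 => c0
  | c6 => c0
  | c7 => c0

/-- Multiplication table, row 1. -/
def mulR1 : K8 → K8
  | c0 => c0
  | c1 => c1
  | c2 => c2
  | c3 => c3
  | c4 => c4
  | c5 => c5
  | c6 => c6
  | c7 => c7

/-- Multiplication table, row 2. -/
def mulR2 : K8 → K8
  | c0 => c0
  | c1 => c2
  | c2 => c4
  | c3 => c6
  | c4 => c3
  | c5 => c1
  | c6 => c7
  | c7 => c5

/-- Multiplication table, row 3. -/
def mulR3 : K8 → K8
  | c0 => c0
  | c1 => c3
  | c2 => c6
  | c3 => c5
  | c4 => c7
  | c5 => c4
  | c6 => c1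
  | c7 => c2

/-- Multiplication table, row 4. -/
def mulR4 : K8 → K8
  | c0 => c0
  | c1 => c4
  | c2 => c3
  | c3 => c7
  | c4 => c6
  | c5 => c2
  | c6 => c5
  | c7 => c1

/-- Multiplication table, row 5. -/
def mulR5 : K8 → K8
  | c0 => c0
  | c1 => c5
  | c2 => c1
  | c3 => c4
  | c4 => c2
  | c5 => c7
  | c6 => c3
  | c7 => c6

/-- Multiplication table, row 6. -/
def mulR6 : K8 → K8
  | c0 => c0
  | c1 => c6
  | c2 => c7
  | c3 => c1
  | c4 => c5
  | c5 => c3
  | c6 => c2
  | c7 => c4

/-- Multiplication table, row 7. -/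
def mulR7 : K8 → K8
  | c0 => c0
  | c1 => c7
  | c2 => c5
  | c3 => c2
  | c4 => c1
  | c5 => c6
  | c6 => c4
  | c7 => c3

/-- Multiplication. -/
def mul : K8 → K8 → K8
  | c0 => mulR0
  | c1 => mulR1
  | c2 => mulR2
  | c3 => mulR3
  | c4 => mulR4
  | c5 => mulR5
  | c6 => mulR6
  | c7 => mulR7

/-- Inverse. -/
def inv : K8 → K8
  | c0 => c0
  | c1 => c1
  | c2 => c5
  | c3 => c6
  | c4 => c7
  | c5 => c2
  | c6 => c3
  | c7 => c4

/-- The Frobenius `x ↦ x ^ 2`. -/
def sq : K8 → K8
  | c0 => c0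
  | c1 => c1
  | c2 => c4
  | c3 => c5
  | c4 => c6
  | c5 => c7
  | c6 => c2
  | c7 => c3

/-- The map `x ↦ x ^ 4`. -/
def fr4 : K8 → K8
  | c0 => c0
  | c1 => c1
  | c2 => c6
  | c3 => c7
  | c4 => c2
  | c5 => c3
  | c6 => c4
  | c7 => c5


instance : Zero K8 := ⟨c0⟩
instance : One K8 := ⟨c1⟩
instance : Add K8 := ⟨add⟩
instance : Neg K8 := ⟨id⟩
instance : Mul K8 := ⟨mul⟩
instance : Inv K8 := ⟨inv⟩

instance instCommRing : CommRing K8 where
  add_assoc := by decide +kernel
  zero_add := by decide +kernel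
  add_zero := by decide +kernel
  add_comm := by decide +kernel
  neg_add_cancel := by decide +kernel
  mul_assoc := by decide +kernel
  one_mul := by decide +kernel
  mul_one := by decide +kernel
  mul_comm := by decide +kernel
  left_distrib := by decide +kernel
  right_distrib := by decide +kernel
  zero_mul := by decide +kernel
  mul_zero := by decide +kernel
  nsmul := nsmulRec
  zsmul := zsmulRec

instance instField : Field K8 where
  exists_pair_ne := ⟨0, 1, by decide⟩
  mul_inv_cancel := by decide +kernel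
  inv_zero := by decide
  nnqsmul := _
  qsmul := _

theorem card_eq : Fintype.card K8 = 8 := by decide

theorem add_self (x : K8) : x + x = 0 := by
  revert x; decide

theorem sq_eq : ∀ x : K8, sq x = x ^ 2 := by decide +kernel

theorem fr4_eq : ∀ x : K8, fr4 x = x ^ 4 := by decide +kernel

theorem two_eq_zero : (2 : K8) = 0 := by decide +kernel

/-- The Frobenius automorphism. -/
def frob : K8 ≃+* K8 where
  toFun := sq
  invFun := fr4
  left_inv := by decide +kernel
  right_inv := by decide +kernel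
  map_mul' := by decide +kernel
  map_add' := by decide +kernel

theorem frob_apply (x : K8) : frob x = sq x := rfl

theorem frob_cube : frob ^ 3 = 1 := by
  ext x
  revert x
  decide +kernel

theorem frob_ne_one : frob ≠ 1 := by
  intro h
  have := congrArg (fun f : K8 ≃+* K8 => f c2) h
  revert this
  decide +kernel

theorem orderOf_frob : orderOf frob = 3 := by
  haveI : Fact (Nat.Prime 3) := ⟨Nat.prime_three⟩
  exact orderOf_eq_prime frob_cube frob_ne_one

end K8

end Cfsg.Agent.Lib.PrimeGraph.K8Field
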