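import Cfsg.Agent.S2469
import Cfsg.Agent.S2472
import Cfsg.Agent.Lib.Classical.SympSimple
import Cfsg.Agent.Lib.Classical.SympCount
import Cfsg.Agent.Lib.Classical.FieldTransfer
import Cfsg.Agent.Lib.PrimeGraph.Lift2

/-!
# The prime graph of `PSp(6, 3)`

The prime graph of `PSp(6, 3)` has vertices `2, 3, 5, 7, 13` and edges `2-3, 2-5, 2-7, 3-5`.
-/

set_option autoImplicit false

namespace Cfsg.Agent.Lib.PrimeGraph.PSp63

open scoped Matrix

/-- The prime field. -/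
abbrev K3 : Type := ZMod 3

/-- The index set. -/
abbrev Idx : Type := Fin 3 ⊕ Fin 3

/-- The matrices. -/
abbrev Mat : Type := Matrix Idx Idx K3

/-- The symplectic group. -/
abbrev Sp : Type := ↥(Matrix.symplecticGroup (Fin 3) K3)

/-- The projective symplectic group. -/
abbrev L : Type := Cfsg.PSp 3 K3

/-- The quotient map. -/
def pi : Sp →* L := QuotientGroup.mk' _

theorem pi_surj : Function.Surjective pi := QuotientGroup.mk'_surjective _

theorem pi_eq_one (A : Sp) : pi A = 1 ↔ (A.1 = 1 ∨ A.1 = -1) := by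
  have h1 : pi A = 1 ↔ A ∈ Subgroup.center Sp := QuotientGroup.eq_one_iff A
  rw [h1, Cfsg.Agent.Lib.Classical.SympSimple.mem_center_symplecticGroup_iff (by norm_num) A]
  constructor
  · rintro (h | h)
    · left; rw [h]; rfl
    · right; rw [h]; rfl
  · rintro (h | h)
    · left; exact Subtype.ext h
    · right; exact Subtype.ext h

theorem coe_pow' (A : Sp) (n : ℕ) : (A ^ n).1 = A.1 ^ n := rfl

theorem order_pi_mul (A : Sp) (r q : ℕ) (hr : r.Prime) (hq : q.Prime)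
    (h1 : A.1 ^ (r * q) = 1 ∨ A.1 ^ (r * q) = -1)
    (h2 : ¬ (A.1 ^ r = 1 ∨ A.1 ^ r = -1))
    (h3 : ¬ (A.1 ^ q = 1 ∨ A.1 ^ q = -1)) : orderOf (pi A) = r * q := by
  apply orderOf_eq_of_pow_and_pow_div_prime (Nat.mul_pos hr.pos hq.pos)
  · rw [← map_pow, pi_eq_one]
    exact h1
  · intro l hl hd
    rw [← map_pow, Ne, pi_eq_one, coe_pow']
    rcases (Nat.Prime.dvd_mul hl).mp hd with h | h
    · have : l = r := (Nat.prime_dvd_prime_iff_eq hl hr).mp h
      subst this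
      rw [Nat.mul_div_cancel_left _ hl.pos]
      exact h3
    · have : l = q := (Nat.prime_dvd_prime_iff_eq hl hq).mp h
      subst this
      rw [Nat.mul_div_cancel _ hl.pos]
      exact h2

/-- An explicit element of the symplectic group, of order 6 modulo the centre. -/
def M6 : Mat := Matrix.fromBlocks (!![0, 1, 2; 2, 1, 1; 1, 2, 2]) (!![2, 2, 1; 0, 1, 0; 1, 1, 2]) (!![1, 0, 1; 2, 1, 2; 1, 0, 2]) (!![1, 1, 0; 2, 0, 1; 0, 2, 1])
theorem M6_mem : M6 ∈ Matrix.symplecticGroup (Fin 3) K3 := by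
  rw [SymplecticGroup.mem_iff]
  decide +kernel
theorem order_6 : orderOf (pi ⟨M6, M6_mem⟩) = 2 * 3 :=
  order_pi_mul _ _ _ (by norm_num) (by norm_num) (by show M6 ^ (2 * 3) = 1 ∨ M6 ^ (2 * 3) = -1; decide +kernel)
    (by show ¬ (M6 ^ 2 = 1 ∨ M6 ^ 2 = -1); decide +kernel)
    (by show ¬ (M6 ^ 3 = 1 ∨ M6 ^ 3 = -1); decide +kernel)

/-- An explicit element of the symplectic group, of order 10 modulo the centre. -/
def M10 : Mat := Matrix.fromBlocks (!![2, 0, 0; 0, 1, 2; 2, 2, 2]) (!![2, 1, 1; 0, 1, 1; 1, 1, 0]) (!![1, 1, 0; 1, 2, 1; 1, 2, 2]) (!![2, 0, 2; 1, 0, 2; 0, 0, 2])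
theorem M10_mem : M10 ∈ Matrix.symplecticGroup (Fin 3) K3 := by
  rw [SymplecticGroup.mem_iff]
  decide +kernel
theorem order_10 : orderOf (pi ⟨M10, M10_mem⟩) = 2 * 5 :=
  order_pi_mul _ _ _ (by norm_num) (by norm_num) (by show M10 ^ (2 * 5) = 1 ∨ M10 ^ (2 * 5) = -1; decide +kernel)
    (by show ¬ (M10 ^ 2 = 1 ∨ M10 ^ 2 = -1); decide +kernel)
    (by show ¬ (M10 ^ 5 = 1 ∨ M10 ^ 5 = -1); decide +kernel)

/-- An explicit element of the symplectic group, of order 14 modulo the centre. -/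
def M14 : Mat := Matrix.fromBlocks (!![2, 1, 2; 1, 2, 2; 1, 0, 2]) (!![0, 0, 0; 0, 2, 2; 1, 2, 1]) (!![2, 0, 0; 1, 2, 1; 0, 2, 2]) (!![0, 2, 1; 1, 2, 1; 0, 2, 2])
theorem M14_mem : M14 ∈ Matrix.symplecticGroup (Fin 3) K3 := by
  rw [SymplecticGroup.mem_iff]
  decide +kernel
theorem order_14 : orderOf (pi ⟨M14, M14_mem⟩) = 2 * 7 :=
  order_pi_mul _ _ _ (by norm_num) (by norm_num) (by show M14 ^ (2 * 7) = 1 ∨ M14 ^ (2 * 7) = -1; decide +kernel)
    (by show ¬ (M14 ^ 2 = 1 ∨ M14 ^ 2 = -1); decide +kernel)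
    (by show ¬ (M14 ^ 7 = 1 ∨ M14 ^ 7 = -1); decide +kernel)

/-- An explicit element of the symplectic group, of order 15 modulo the centre. -/
def M15 : Mat := Matrix.fromBlocks (!![0, 1, 1; 0, 0, 2; 1, 1, 1]) (!![1, 2, 2; 0, 0, 1; 0, 0, 2]) (!![1, 2, 1; 1, 2, 0; 0, 1, 0]) (!![0, 0, 2; 1, 0, 2; 2, 2, 0])
theorem M15_mem : M15 ∈ Matrix.symplecticGroup (Fin 3) K3 := by
  rw [SymplecticGroup.mem_iff]
  decide +kernel
theorem order_15 : orderOf (pi ⟨M15, M15_mem⟩) = 3 * 5 :=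
  order_pi_mul _ _ _ (by norm_num) (by norm_num) (by show M15 ^ (3 * 5) = 1 ∨ M15 ^ (3 * 5) = -1; decide +kernel)
    (by show ¬ (M15 ^ 3 = 1 ∨ M15 ^ 3 = -1); decide +kernel)
    (by show ¬ (M15 ^ 5 = 1 ∨ M15 ^ 5 = -1); decide +kernel)

/-- An element of order 13. -/
def zM : Mat := Matrix.fromBlocks (!![2, 1, 1; 1, 1, 1; 0, 2, 1]) (!![1, 1, 1; 1, 1, 0; 1, 2, 2]) (!![0, 1, 2; 0, 0, 0; 1, 1, 0]) (!![0, 2, 2; 2, 1, 1; 0, 2, 0])

theorem zM_mem : zM ∈ Matrix.symplecticGroup (Fin 3) K3 := by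
  rw [SymplecticGroup.mem_iff]
  decide +kernel

/-- The element of order 13 of the symplectic group. -/
def zS : Sp := ⟨zM, zM_mem⟩

theorem zM_pow : zM ^ 13 = 1 := by decide +kernel

theorem zM_ne : zM ≠ 1 := by decide +kernel

theorem order_zS : orderOf zS = 13 := by
  haveI : Fact (Nat.Prime 13) := ⟨by norm_num⟩
  apply orderOf_eq_prime
  · exact Subtype.ext zM_pow
  · intro h
    exact zM_ne (congrArg Subtype.val h)

theorem zM_neg : ¬ (zM = -1) := by decide +kernel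

theorem order_pi_z : orderOf (pi zS) = 13 := by
  haveI : Fact (Nat.Prime 13) := ⟨by norm_num⟩
  apply orderOf_eq_prime
  · rw [← map_pow, order_zS.symm, pow_orderOf_eq_one, map_one]
  · rw [Ne, pi_eq_one]
    rintro (h | h)
    · exact zM_ne h
    · exact zM_neg h

/-- The powers of `zM`. -/
def Zl : Fin 6 → Mat
  | 0 => Matrix.fromBlocks (!![1, 0, 0; 0, 1, 0; 0, 0, 1]) (!![0, 0, 0; 0, 0, 0; 0, 0, 0]) (!![0, 0, 0; 0, 0, 0; 0, 0, 0]) (!![1, 0, 0; 0, 1, 0; 0, 0, 1])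
  | 1 => Matrix.fromBlocks (!![2, 1, 1; 1, 1, 1; 0, 2, 1]) (!![1, 1, 1; 1, 1, 0; 1, 2, 2]) (!![0, 1, 2; 0, 0, 0; 1, 1, 0]) (!![0, 2, 2; 2, 1, 1; 0, 2, 0])
  | 2 => Matrix.fromBlocks (!![0, 1, 0; 0, 2, 2; 1, 1, 2]) (!![0, 1, 1; 2, 1, 0; 1, 0, 0]) (!![0, 1, 0; 1, 0, 1; 0, 2, 2]) (!![1, 2, 0; 2, 1, 2; 0, 1, 0])
  | 3 => Matrix.fromBlocks (!![2, 2, 1; 2, 2, 2; 0, 1, 0]) (!![0, 1, 1; 0, 2, 0; 1, 2, 1]) (!![1, 2, 0; 1, 1, 0; 2, 0, 1]) (!![2, 2, 1; 1, 0, 2; 0, 1, 2])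
  | 4 => Matrix.fromBlocks (!![1, 1, 2; 0, 2, 0; 2, 0, 0]) (!![1, 0, 2; 1, 1, 2; 2, 1, 1]) (!![2, 0, 1; 2, 2, 1; 0, 0, 0]) (!![1, 2, 1; 2, 2, 0; 2, 0, 2])
  | 5 => Matrix.fromBlocks (!![2, 0, 0; 1, 2, 1; 2, 2, 0]) (!![1, 0, 1; 1, 0, 0; 1, 0, 1]) (!![2, 0, 2; 0, 2, 0; 2, 1, 1]) (!![1, 1, 2; 0, 0, 1; 0, 2, 1])

theorem Zl_eq : ∀ j : Fin 6, zM ^ (j : ℕ) = Zl j := by decide +kernel

/-- A cyclic vector. -/
def cycV : Idx → K3 := Sum.elim ![0, 0, 0] ![0, 0, 1]

/-- The matrix of the cyclic basis. -/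
def Km : Matrix Idx (Fin 6) K3 := Matrix.of fun i j => (Zl j *ᵥ cycV) i

/-- Its inverse. -/
def Kinv : Matrix (Fin 6) Idx K3 := Matrix.of ![Sum.elim ![2, 1, 1] ![0, 2, 1], Sum.elim ![2, 1, 1] ![2, 2, 0], Sum.elim ![0, 2, 0] ![2, 2, 0], Sum.elim ![2, 2, 0] ![1, 2, 0], Sum.elim ![0, 2, 0] ![0, 0, 0], Sum.elim ![0, 0, 2] ![1, 0, 0]]

theorem K_Kinv : Km * Kinv = 1 := by decide +kernel

theorem Km_apply (i : Idx) (j : Fin 6) : Km i j = (Zl j *ᵥ cycV) i := rfl

theorem poly_mulVec (a : Fin 6 → K3) : (∑ j, a j • Zl j) *ᵥ cycV = Km *ᵥ a := by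
  rw [Matrix.sum_mulVec]
  funext i
  rw [Finset.sum_apply]
  show _ = ∑ j, Km i j * a j
  refine Finset.sum_congr rfl fun j _ => ?_
  rw [Matrix.smul_mulVec, Pi.smul_apply, smul_eq_mul, mul_comm, Km_apply]

/-- A matrix commuting with `zM` is a polynomial in it. -/
theorem eq_poly (h : Mat) (hc : h * zM = zM * h) : ∃ a : Fin 6 → K3, h = ∑ j, a j • Zl j := by
  classical
  let a : Fin 6 → K3 := Kinv *ᵥ (h *ᵥ cycV)
  refine ⟨a, ?_⟩
  let P : Mat := ∑ j, a j • Zl j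
  have hP : P *ᵥ cycV = h *ᵥ cycV := by
    have h1 : Km *ᵥ a = h *ᵥ cycV := by
      show Km *ᵥ (Kinv *ᵥ (h *ᵥ cycV)) = _
      rw [Matrix.mulVec_mulVec, K_Kinv, Matrix.one_mulVec]
    rw [← h1]
    exact poly_mulVec a
  have hcz : ∀ j : Fin 6, Commute h (Zl j) := by
    intro j
    rw [← Zl_eq]
    exact Commute.pow_right hc _
  have hPz : ∀ j : Fin 6, Commute P (Zl j) := by
    intro j
    apply Commute.sum_left
    intro k _
    have : Commute (Zl k) (Zl j) := by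
      rw [← Zl_eq, ← Zl_eq]
      exact Commute.pow_pow (Commute.refl zM) _ _
    exact this.smul_left _
  have hD : (h - P) * Km = 0 := by
    ext i j
    have h2 : (h - P) *ᵥ (Zl j *ᵥ cycV) = 0 := by
      rw [Matrix.mulVec_mulVec, ((hcz j).sub_left (hPz j)).eq, ← Matrix.mulVec_mulVec, Matrix.sub_mulVec, hP, sub_self,
        Matrix.mulVec_zero]
    have h3 := congrFun h2 i
    rw [Matrix.mul_apply]
    simp only [Km_apply]
    exact h3
  have h5 : h - P = 0 := by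
    have : (h - P) * (Km * Kinv) = 0 := by
      rw [← Matrix.mul_assoc, hD, Matrix.zero_mul]
    rwa [K_Kinv, Matrix.mul_one] at this
  exact sub_eq_zero.mp h5

set_option maxRecDepth 100000 in
/-- The elements of the symplectic group commuting with `zM` have order dividing 26. -/
theorem check_poly : ∀ a0 a1 a2 a3 a4 a5 : K3,
    let P : Mat := a0 • Zl 0 + a1 • Zl 1 + a2 • Zl 2 + a3 • Zl 3 + a4 • Zl 4 + a5 • Zl 5
    P * Matrix.J (Fin 3) K3 * Pᵀ = Matrix.J (Fin 3) K3 → (P ^ 13 = 1 ∨ P ^ 13 = -1) := by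
  decide +kernel

theorem card_Sp : Nat.card Sp = 3 ^ 9 * (8 * 80 * 728) := by
  have h := Cfsg.Agent.Lib.Classical.SympCount.card_symplecticGroup (F := K3) (q := 3) (Nat.card_zmod 3) 3
  rw [h]
  simp [Finset.prod_range_succ]

theorem no_order_26 (g : L) : orderOf g ≠ 26 := by
  intro hg
  obtain ⟨A, rfl⟩ := pi_surj g
  have h26 : (A ^ 26).1 = 1 ∨ (A ^ 26).1 = -1 :=
    (pi_eq_one _).mp (by rw [map_pow, ← hg, pow_orderOf_eq_one])
  have hy1 : (A ^ 4) ^ 13 = 1 := by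
    apply Subtype.ext
    have h1 : ((A ^ 4) ^ 13).1 = ((A ^ 26).1) ^ 2 := by
      rw [coe_pow', coe_pow', coe_pow', ← pow_mul, ← pow_mul]
    rw [h1]
    show _ = (1 : Mat)
    rcases h26 with h | h <;> rw [h] <;> simp
  have hy2 : A ^ 4 ≠ 1 := by
    intro h
    have h3 : pi A ^ 4 = 1 := by rw [← map_pow, h, map_one]
    have h4 := orderOf_dvd_of_pow_eq_one h3
    rw [hg] at h4
    omega
  haveI : Fact (Nat.Prime 13) := ⟨by norm_num⟩
  have hy : orderOf (A ^ 4) = 13 := orderOf_eq_prime hy1 hy2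
  have hcard : ¬ (13 ^ 2 ∣ Nat.card Sp) := by
    rw [card_Sp]
    norm_num
  haveI : Finite Sp := by
    apply Nat.finite_of_card_ne_zero
    rw [card_Sp]
    norm_num
  obtain ⟨c, k, hc⟩ := Cfsg.Agent.Lib.PrimeGraph.Lift2.exists_conj_pow 13 (by norm_num) hcard zS (A ^ 4) order_zS hy
  let h : Sp := c * A * c⁻¹
  have hcomm : Commute h zS := by
    rw [← hc]
    have h3 : Commute A ((A ^ 4) ^ k) := ((Commute.refl A).pow_right 4).pow_right k
    exact h3.map (MulAut.conj c).toMonoidHom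
  have hm : h.1 * zM = zM * h.1 := congrArg Subtype.val hcomm.eq
  obtain ⟨a, ha⟩ := eq_poly h.1 hm
  have hJ : h.1 * Matrix.J (Fin 3) K3 * h.1ᵀ = Matrix.J (Fin 3) K3 := SymplecticGroup.mem_iff.mp h.2
  rw [ha, Fin.sum_univ_six] at hJ
  have h13 := check_poly (a 0) (a 1) (a 2) (a 3) (a 4) (a 5) hJ
  simp only [← Fin.sum_univ_six (fun j => a j • Zl j), ← ha] at h13
  have h4 : pi h ^ 13 = 1 := by
    rw [← map_pow, pi_eq_one]
    exact h13
  have h5 : orderOf (pi h) = 26 := by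
    rw [← hg]
    have h6 : pi h = MulAut.conj (pi c) (pi A) := by
      simp [h, map_mul, MulAut.conj_apply]
    rw [h6]
    exact orderOf_injective (MulAut.conj (pi c)).toMonoidHom (MulAut.conj (pi c)).injective _
  have h7 := orderOf_dvd_of_pow_eq_one h4
  rw [h5] at h7
  omega

theorem prime_dvd_Sp (l : ℕ) (hl : l.Prime) (h : l ∣ Nat.card Sp) : l = 2 ∨ l = 3 ∨ l = 5 ∨ l = 7 ∨ l = 13 := by
  have h1 : Nat.card Sp = 2 ^ 10 * 3 ^ 9 * 5 * 7 * 13 := by
    rw [card_Sp]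
    norm_num
  rw [h1] at h
  rcases (Nat.Prime.dvd_mul hl).mp h with h | h
  · rcases (Nat.Prime.dvd_mul hl).mp h with h | h
    · rcases (Nat.Prime.dvd_mul hl).mp h with h | h
      · rcases (Nat.Prime.dvd_mul hl).mp h with h | h
        · left
          exact (Nat.prime_dvd_prime_iff_eq hl (by norm_num)).mp (hl.dvd_of_dvd_pow h)
        · right; left
          exact (Nat.prime_dvd_prime_iff_eq hl (by norm_num)).mp (hl.dvd_of_dvd_pow h)
      · right; right; left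
        exact (Nat.prime_dvd_prime_iff_eq hl (by norm_num)).mp h
    · right; right; right; left
      exact (Nat.prime_dvd_prime_iff_eq hl (by norm_num)).mp h
  · right; right; right; right
    exact (Nat.prime_dvd_prime_iff_eq hl (by norm_num)).mp h

theorem prime_dvd_L (l : ℕ) (hl : l.Prime) : l ∣ Nat.card L ↔ l = 2 ∨ l = 3 ∨ l = 5 ∨ l = 7 ∨ l = 13 := by
  constructor
  · intro h
    apply prime_dvd_Sp l hl
    have h2 : Nat.card L ∣ Nat.card Sp := Subgroup.card_quotient_dvd_card _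
    exact h.trans h2
  · rintro (rfl | rfl | rfl | rfl | rfl)
    · have h1 := orderOf_dvd_natCard (pi ⟨M6, M6_mem⟩)
      rw [order_6] at h1
      exact (Dvd.intro _ rfl).trans h1
    · have h1 := orderOf_dvd_natCard (pi ⟨M6, M6_mem⟩)
      rw [order_6] at h1
      exact (Dvd.intro_left _ rfl).trans h1
    · have h1 := orderOf_dvd_natCard (pi ⟨M10, M10_mem⟩)
      rw [order_10] at h1
      exact (Dvd.intro_left _ rfl).trans h1
    · have h1 := orderOf_dvd_natCard (pi ⟨M14, M14_mem⟩)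
      rw [order_14] at h1
      exact (Dvd.intro_left _ rfl).trans h1
    · have h1 := orderOf_dvd_natCard (pi zS)
      rw [order_pi_z] at h1
      exact h1

theorem card_K3 : Fintype.card K3 = 3 := ZMod.card 3

theorem ord5 : 4 = orderOf ((Fintype.card K3 : ℕ) : ZMod 5) := by
  rw [card_K3]
  exact ((orderOf_eq_iff (by norm_num)).mpr (by decide +kernel)).symm

theorem ord7 : 6 = orderOf ((Fintype.card K3 : ℕ) : ZMod 7) := by
  rw [card_K3]
  exact ((orderOf_eq_iff (by norm_num)).mpr (by decide +kernel)).symm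

theorem ord13 : 3 = orderOf ((Fintype.card K3 : ℕ) : ZMod 13) := by
  rw [card_K3]
  exact ((orderOf_eq_iff (by norm_num)).mpr (by decide +kernel)).symm

theorem dvd_5 : 5 ∣ Nat.card L := (prime_dvd_L 5 (by norm_num)).mpr (by norm_num)
theorem dvd_7 : 7 ∣ Nat.card L := (prime_dvd_L 7 (by norm_num)).mpr (by norm_num)
theorem dvd_13 : 13 ∣ Nat.card L := (prime_dvd_L 13 (by norm_num)).mpr (by norm_num)

theorem no_21 (g : L) : orderOf g ≠ 21 := by
  have h := (Cfsg.Agent.S2472.result (F := K3) 3 3 (by norm_num) (by norm_num) 7 (by norm_num) (by norm_num) (by norm_num)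
    dvd_7 6 3 ord7 (Or.inr ⟨by decide, by norm_num⟩)).mpr (by norm_num)
  intro hg
  exact h ⟨g, hg⟩

theorem no_39 (g : L) : orderOf g ≠ 39 := by
  have h := (Cfsg.Agent.S2472.result (F := K3) 3 3 (by norm_num) (by norm_num) 13 (by norm_num) (by norm_num) (by norm_num)
    dvd_13 3 3 ord13 (Or.inl ⟨by decide, rfl⟩)).mpr (by norm_num)
  intro hg
  exact h ⟨g, hg⟩

theorem no_35 (g : L) : orderOf g ≠ 35 := by
  have h := (Cfsg.Agent.S2469.result (F := K3) 3 3 (by norm_num) (by norm_num) 5 7 (by norm_num) (by norm_num) (by norm_num)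
    (by norm_num) (by norm_num) (by norm_num) (by norm_num) dvd_5 dvd_7 4 6 2 3 ord5 ord7
    (Or.inr ⟨by decide, by norm_num⟩) (Or.inr ⟨by decide, by norm_num⟩) (by norm_num)).mpr ⟨by norm_num, by
      rintro ⟨t, -, ht⟩
      omega⟩
  intro hg
  exact h ⟨g, hg⟩

theorem no_65 (g : L) : orderOf g ≠ 65 := by
  have h := (Cfsg.Agent.S2469.result (F := K3) 3 3 (by norm_num) (by norm_num) 5 13 (by norm_num) (by norm_num) (by norm_num)
    (by norm_num) (by norm_num) (by norm_num) (by norm_num) dvd_5 dvd_13 4 3 2 3 ord5 ord13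
    (Or.inr ⟨by decide, by norm_num⟩) (Or.inl ⟨by decide, rfl⟩) (by norm_num)).mpr ⟨by norm_num, by
      rintro ⟨t, -, ht⟩
      omega⟩
  intro hg
  exact h ⟨g, hg⟩

theorem no_91 (g : L) : orderOf g ≠ 91 := by
  have h := (Cfsg.Agent.S2469.result (F := K3) 3 3 (by norm_num) (by norm_num) 7 13 (by norm_num) (by norm_num) (by norm_num)
    (by norm_num) (by norm_num) (by norm_num) (by norm_num) dvd_7 dvd_13 6 3 3 3 ord7 ord13
    (Or.inr ⟨by decide, by norm_num⟩) (Or.inl ⟨by decide, rfl⟩) (by norm_num)).mpr ⟨by norm_num, by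
      rintro ⟨t, -, ht⟩
      omega⟩
  intro hg
  exact h ⟨g, hg⟩

/-- The prime graph of `PSp(6, 3)`. -/
theorem graph_L (r q : ℕ) (hr : r.Prime) (hq : q.Prime) (hrq : r ≠ q) :
    (∃ g : L, orderOf g = r * q) ↔ (r * q = 6 ∨ r * q = 10 ∨ r * q = 14 ∨ r * q = 15) := by
  constructor
  · rintro ⟨g, hg⟩
    have hrd : r ∣ Nat.card L := (Dvd.intro _ hg.symm).trans (orderOf_dvd_natCard g)
    have hqd : q ∣ Nat.card L := (Dvd.intro_left _ hg.symm).trans (orderOf_dvd_natCard g)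
    rw [prime_dvd_L r hr] at hrd
    rw [prime_dvd_L q hq] at hqd
    have a := no_order_26 g
    have b := no_21 g
    have c := no_39 g
    have d := no_35 g
    have e := no_65 g
    have f := no_91 g
    rw [hg] at a b c d e f
    rcases hrd with rfl | rfl | rfl | rfl | rfl <;> rcases hqd with rfl | rfl | rfl | rfl | rfl <;> omega
  · rintro (h | h | h | h)
    · exact ⟨_, by rw [order_6, h]⟩
    · exact ⟨_, by rw [order_10, h]⟩
    · exact ⟨_, by rw [order_14, h]⟩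
    · exact ⟨_, by rw [order_15, h]⟩

section transfer

variable {F K : Type*} [Field F] [Field K]

theorem J_map (e : F ≃+* K) : (Matrix.J (Fin 3) F).map e = Matrix.J (Fin 3) K := by
  ext (i | i) (j | j) <;> simp [Matrix.J, Matrix.one_apply, apply_ite e]

theorem sp_map (e : F ≃+* K) (A : Matrix (Fin 3 ⊕ Fin 3) (Fin 3 ⊕ Fin 3) F) (h : A ∈ Matrix.symplecticGroup (Fin 3) F) :
    A.map e ∈ Matrix.symplecticGroup (Fin 3) K := by
  rw [SymplecticGroup.mem_iff]
  have h1 := SymplecticGroup.mem_iff.mp h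
  have key : (A * Matrix.J (Fin 3) F * Aᵀ).map e = A.map e * Matrix.J (Fin 3) K * (A.map e)ᵀ := by
    rw [← J_map e]
    ext i j
    simp only [Matrix.map_apply, Matrix.mul_apply, Matrix.transpose_apply, map_sum, map_mul]
  rw [← key, h1, J_map]

/-- A field isomorphism induces an isomorphism of symplectic groups. -/
def spCongr (e : F ≃+* K) : Matrix.symplecticGroup (Fin 3) F ≃* Matrix.symplecticGroup (Fin 3) K where
  toFun A := ⟨A.1.map e, sp_map e _ A.2⟩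
  invFun A := ⟨A.1.map e.symm, sp_map e.symm _ A.2⟩
  left_inv A := by
    apply Subtype.ext
    ext i j
    simp
  right_inv A := by
    apply Subtype.ext
    ext i j
    simp
  map_mul' A B := by
    apply Subtype.ext
    ext i j
    simp [Matrix.mul_apply, map_sum]

end transfer

theorem nonempty_equiv {F : Type*} [Field F] [Fintype F] (hF : Fintype.card F = 3) : Nonempty (Cfsg.PSp 3 F ≃* L) := by
  have e : F ≃+* K3 := FiniteField.ringEquivOfCardEq (by rw [hF, card_K3])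
  exact ⟨Cfsg.Agent.Lib.Classical.FieldTransfer.centralQuotientCongr (spCongr e)⟩

end Cfsg.Agent.Lib.PrimeGraph.PSp63
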