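import Cfsg.Agent.Lib.PrimeGraph.K8Field
import Cfsg.Agent.Lib.PrimeGraph.Lift4
import Cfsg.Agent.Lib.PrimeGraph.Lift2
import Cfsg.Agent.Lib.PrimeGraph.Suzuki
import Cfsg.Agent.Lib.SzIso.Basic
import Cfsg.Agent.S2238

/-!
# The semidirect products of a vector space with `Sz(8) : 3`

The automorphism group `Sz(8) : 3` acts on the `4 × 4` matrices over the field with eight elements (the tensor
product of the natural module with its Frobenius twist) so that elements of order 13 have no fixed vectors, and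
elements of orders 5 and 7 have some. The resulting semidirect products have the prime graph with edges
`2-3, 2-5, 2-7, 3-5` on the primes `2, 3, 5, 7, 13`.
-/

set_option autoImplicit false

namespace Cfsg.Agent.Lib.PrimeGraph.Sz8Ext

open Cfsg.Agent.Lib.PrimeGraph.K8Field K8
open Cfsg.Lie (star4 Sp4 altForm4)
open scoped Matrix MatrixGroups

/-- The Suzuki group. -/
abbrev S8 : Type := ↥(Cfsg.Lie.Sz K8 4)

/-- The matrix of an element. -/
def mat (s : S8) : Matrix (Fin 4) (Fin 4) K8 := (s.1 : GL (Fin 4) K8)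

theorem mat_mul (a b : S8) : mat (a * b) = mat a * mat b := rfl
theorem mat_one : mat 1 = 1 := rfl

/-- The matrix as a homomorphism. -/
def matHom : S8 →* Matrix (Fin 4) (Fin 4) K8 where
  toFun := mat
  map_one' := mat_one
  map_mul' := mat_mul

theorem matHom_inj : Function.Injective matHom := fun _ _ h => Subtype.ext (Units.ext h)

theorem mat_pow (s : S8) (n : ℕ) : mat (s ^ n) = mat s ^ n := map_pow matHom s n

/-- The entrywise action of a field automorphism. -/
def mapG (τ : K8 ≃+* K8) : GL (Fin 4) K8 ≃* GL (Fin 4) K8 :=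
  Units.mapEquiv (τ.mapMatrix (m := Fin 4)).toMulEquiv

theorem mapG_coe (τ : K8 ≃+* K8) (g : GL (Fin 4) K8) :
    ((mapG τ g : GL (Fin 4) K8) : Matrix (Fin 4) (Fin 4) K8) = (g : Matrix (Fin 4) (Fin 4) K8).map τ := rfl

theorem altForm_map (τ : K8 ≃+* K8) (u v : Fin 4 → K8) :
    altForm4 (τ ∘ u) (τ ∘ v) = τ (altForm4 u v) := by
  simp [altForm4]

theorem mulVec_map (τ : K8 ≃+* K8) (M : Matrix (Fin 4) (Fin 4) K8) (u : Fin 4 → K8) :
    (M.map τ) *ᵥ (τ ∘ u) = τ ∘ (M *ᵥ u) := by
  funext i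
  simp [Matrix.mulVec, dotProduct, map_sum]

theorem mapG_sp (τ : K8 ≃+* K8) {g : GL (Fin 4) K8} (hg : g ∈ Sp4 K8) : mapG τ g ∈ Sp4 K8 := by
  intro u v
  have hu : u = τ ∘ (τ.symm ∘ u) := by funext i; simp
  have hv : v = τ ∘ (τ.symm ∘ v) := by funext i; simp
  have hM : Units.coeHom (Matrix (Fin 4) (Fin 4) K8) (mapG τ g) = (g : Matrix (Fin 4) (Fin 4) K8).map τ := rfl
  rw [hM, hu, hv, mulVec_map, mulVec_map, altForm_map, altForm_map]
  exact congrArg τ (hg _ _)

theorem star_map (τ : K8 ≃+* K8) (M : Matrix (Fin 4) (Fin 4) K8) : star4 (M.map τ) = (star4 M).map τ := by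
  ext p r
  simp [star4, map_sub, map_mul]

theorem mapG_mem (τ : K8 ≃+* K8) {g : GL (Fin 4) K8} (hg : g ∈ Cfsg.Lie.Sz K8 4) :
    mapG τ g ∈ Cfsg.Lie.Sz K8 4 := by
  have h : Cfsg.Lie.Sz K8 4 ≤ (Cfsg.Lie.Sz K8 4).comap (mapG τ).toMonoidHom := by
    unfold Cfsg.Lie.Sz
    rw [Subgroup.closure_le]
    rintro g ⟨h1, h2⟩
    apply Subgroup.subset_closure
    refine ⟨mapG_sp τ h1, ?_⟩
    show star4 ((mapG τ g : GL (Fin 4) K8) : Matrix (Fin 4) (Fin 4) K8) = _
    rw [mapG_coe, star_map, h2]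
    ext i j
    simp [mapG_coe]
  exact h hg

/-- The automorphisms of the Suzuki group from field automorphisms. -/
def sAut (τ : K8 ≃+* K8) : S8 ≃* S8 where
  toFun s := ⟨mapG τ s.1, mapG_mem τ s.2⟩
  invFun s := ⟨mapG τ.symm s.1, mapG_mem τ.symm s.2⟩
  left_inv s := by
    apply Subtype.ext
    apply Units.ext
    ext i j
    simp [mapG_coe]
  right_inv s := by
    apply Subtype.ext
    apply Units.ext
    ext i j
    simp [mapG_coe]
  map_mul' a b := by
    apply Subtype.ext
    exact map_mul (mapG τ) a.1 b.1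

theorem mat_sAut (τ : K8 ≃+* K8) (s : S8) : mat (sAut τ s) = (mat s).map τ := rfl

/-- The action of the field automorphisms. -/
def sAutHom : (K8 ≃+* K8) →* MulAut S8 where
  toFun := sAut
  map_one' := by
    ext s : 1
    apply matHom_inj
    ext i j
    rfl
  map_mul' a b := by
    ext s : 1
    apply matHom_inj
    ext i j
    rfl

/-- The group of order 3 generated by the Frobenius map. -/
abbrev C3 : Type := ↥(Subgroup.zpowers frob)

/-- The action of this group. -/
def phi : C3 →* MulAut S8 := sAutHom.comp (Subgroup.zpowers frob).subtype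

/-- The automorphism group of the Suzuki group. -/
abbrev G0 : Type := SemidirectProduct S8 C3 phi

theorem card_C3 : Nat.card C3 = 3 := by
  rw [Nat.card_zpowers, orderOf_frob]

theorem card_S8 : Nat.card S8 = 2 ^ 6 * 5 * 7 * 13 := by
  have h := Cfsg.Agent.Lib.SzIso.Basic.card_LieSz (F := K8) (m := 1) (by norm_num) (by rw [card_eq]; norm_num)
  have h4 : (2 : ℕ) ^ (1 + 1) = 4 := by norm_num
  rw [h4] at h
  rw [h]
  norm_num

theorem card_G0 : Nat.card G0 = 2 ^ 6 * 3 * 5 * 7 * 13 := by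
  let e : G0 ≃ S8 × C3 := SemidirectProduct.equivProd
  rw [Nat.card_congr e, Nat.card_prod, card_C3, card_S8]
  norm_num

instance : Finite S8 := by
  have : Finite (Matrix (Fin 4) (Fin 4) K8) := inferInstanceAs (Finite (Fin 4 → Fin 4 → K8))
  have hfin : Finite (GL (Fin 4) K8) :=
    Finite.of_injective (fun g : GL (Fin 4) K8 => (g : Matrix (Fin 4) (Fin 4) K8)) Units.val_injective
  exact Subtype.finite

instance : Finite (K8 ≃+* K8) :=
  Finite.of_injective (fun f : K8 ≃+* K8 => (f : K8 → K8)) DFunLike.coe_injective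

instance : Finite C3 := by
  exact Subtype.finite

instance : Finite G0 := by
  let e : G0 ≃ S8 × C3 := SemidirectProduct.equivProd
  exact Finite.of_equiv _ e.symm

/-- The module. -/
abbrev W : Type := Matrix (Fin 4) (Fin 4) K8

/-- The action. -/
def act (g : G0) (M : W) : W :=
  mat g.left * M.map (g.right.1 : K8 ≃+* K8) * ((mat g.left).map frob)ᵀ

theorem comm_frob (τ : C3) (x : K8) : (τ.1 : K8 ≃+* K8) (frob x) = frob ((τ.1 : K8 ≃+* K8) x) := by
  obtain ⟨k, hk⟩ := Subgroup.mem_zpowers_iff.mp τ.2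
  have h1 : Commute (frob ^ k) frob := (Commute.refl frob).zpow_left k
  rw [← hk]
  exact congrArg (fun f : K8 ≃+* K8 => f x) h1.eq

theorem act_one (M : W) : act 1 M = M := by
  have h1 : (1 : G0).left = 1 := rfl
  have h2 : (1 : G0).right = 1 := rfl
  unfold act
  rw [h1, h2, mat_one]
  ext i j
  simp

theorem map_mul_e (τ : K8 ≃+* K8) (A B : W) : (A * B).map τ = A.map τ * B.map τ := by
  ext i j
  simp [Matrix.mul_apply, map_sum]

theorem act_mul (a b : G0) (M : W) : act (a * b) M = act a (act b M) := by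
  have h1 : (a * b).left = a.left * phi a.right b.left := rfl
  have h2 : (a * b).right = a.right * b.right := rfl
  have h3 : mat (phi a.right b.left) = (mat b.left).map (a.right.1 : K8 ≃+* K8) := rfl
  unfold act
  rw [h1, h2, mat_mul, h3]
  set τ : K8 ≃+* K8 := a.right.1 with hτ
  set τ' : K8 ≃+* K8 := b.right.1 with hτ'
  set A := mat a.left
  set B := mat b.left
  have e1 : M.map ((a.right * b.right).1 : K8 ≃+* K8) = (M.map τ').map τ := by
    ext i j
    rfl
  have e2 : ((B.map frob)ᵀ).map τ = ((B.map τ).map frob)ᵀ := by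
    ext i j
    exact comm_frob a.right _
  have e3 : (B * M.map τ' * (B.map frob)ᵀ).map τ = B.map τ * (M.map τ').map τ * ((B.map τ).map frob)ᵀ := by
    rw [map_mul_e, map_mul_e, e2]
  rw [e1, e3, map_mul_e frob A (B.map τ), Matrix.transpose_mul]
  simp only [Matrix.mul_assoc]

theorem act_add (g : G0) (M N : W) : act g (M + N) = act g M + act g N := by
  unfold act
  have h : (M + N).map (g.right.1 : K8 ≃+* K8) = M.map (g.right.1 : K8 ≃+* K8) + N.map (g.right.1 : K8 ≃+* K8) := by
    ext i j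
    simp
  rw [h, Matrix.mul_add, Matrix.add_mul]

theorem two_smul_W (w : W) : 2 • w = 0 := by
  ext i j
  simp only [Matrix.smul_apply, two_nsmul, K8.add_self, Matrix.zero_apply]

/-- The Gram matrix of the form, as a function. -/
def altJ (i j : Fin 4) : K8 := if i.val + j.val = 3 then c1 else c0

theorem sp_of (M : W) (hsp : ∀ i j : Fin 4, M 0 i * M 3 j + M 1 i * M 2 j + M 2 i * M 1 j + M 3 i * M 0 j = altJ i j)
    (u v : Fin 4 → K8) : altForm4 (M *ᵥ u) (M *ᵥ v) = altForm4 u v := by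
  have h00 := hsp 0 0
  have h01 := hsp 0 1
  have h02 := hsp 0 2
  have h03 := hsp 0 3
  have h10 := hsp 1 0
  have h11 := hsp 1 1
  have h12 := hsp 1 2
  have h13 := hsp 1 3
  have h20 := hsp 2 0
  have h21 := hsp 2 1
  have h22 := hsp 2 2
  have h23 := hsp 2 3
  have h30 := hsp 3 0
  have h31 := hsp 3 1
  have h32 := hsp 3 2
  have h33 := hsp 3 3
  have a0 : altJ 0 0 = 0 := rfl
  have a1 : altJ 0 1 = 0 := rfl
  have a2 : altJ 0 2 = 0 := rfl
  have a3 : altJ 0 3 = 1 := rfl
  have b0 : altJ 1 0 = 0 := rfl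
  have b1 : altJ 1 1 = 0 := rfl
  have b2 : altJ 1 2 = 1 := rfl
  have b3 : altJ 1 3 = 0 := rfl
  have c'0 : altJ 2 0 = 0 := rfl
  have c'1 : altJ 2 1 = 1 := rfl
  have c'2 : altJ 2 2 = 0 := rfl
  have c'3 : altJ 2 3 = 0 := rfl
  have d0 : altJ 3 0 = 1 := rfl
  have d1 : altJ 3 1 = 0 := rfl
  have d2 : altJ 3 2 = 0 := rfl
  have d3 : altJ 3 3 = 0 := rfl
  simp only [a0, a1, a2, a3, b0, b1, b2, b3, c'0, c'1, c'2, c'3, d0, d1, d2, d3] at *
  simp only [altForm4, Matrix.mulVec, dotProduct, Fin.sum_univ_four]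
  linear_combination u 0 * v 0 * h00 + u 0 * v 1 * h01 + u 0 * v 2 * h02 + u 0 * v 3 * h03
    + u 1 * v 0 * h10 + u 1 * v 1 * h11 + u 1 * v 2 * h12 + u 1 * v 3 * h13
    + u 2 * v 0 * h20 + u 2 * v 1 * h21 + u 2 * v 2 * h22 + u 2 * v 3 * h23
    + u 3 * v 0 * h30 + u 3 * v 1 * h31 + u 3 * v 2 * h32 + u 3 * v 3 * h33

/-- An element from an explicit matrix. -/
def mkS (M Minv : W) (h1 : M * Minv = 1) (h2 : Minv * M = 1)
    (hsp : ∀ i j : Fin 4, M 0 i * M 3 j + M 1 i * M 2 j + M 2 i * M 1 j + M 3 i * M 0 j = altJ i j)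
    (hst : star4 M = M.map (fun x => x ^ 4)) : S8 :=
  ⟨⟨M, Minv, h1, h2⟩, Subgroup.subset_closure ⟨fun u v => sp_of M hsp u v, hst⟩⟩

/-- An explicit matrix. -/
def t2M : Matrix (Fin 4) (Fin 4) K8 := !![c0, c0, c0, c1; c0, c0, c1, c0; c0, c1, c0, c0; c1, c0, c0, c0]
/-- Its inverse. -/
def t2I : Matrix (Fin 4) (Fin 4) K8 := !![c0, c0, c0, c1; c0, c0, c1, c0; c0, c1, c0, c0; c1, c0, c0, c0]
theorem t2_h1 : t2M * t2I = 1 := by decide +kernel
theorem t2_h2 : t2I * t2M = 1 := by decide +kernel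
theorem t2_sp : ∀ i j : Fin 4, t2M 0 i * t2M 3 j + t2M 1 i * t2M 2 j + t2M 2 i * t2M 1 j + t2M 3 i * t2M 0 j = altJ i j := by decide +kernel
theorem t2_st : star4 t2M = t2M.map (fun x => x ^ 4) := by decide +kernel
/-- An explicit element. -/
def t2S : S8 := mkS t2M t2I t2_h1 t2_h2 t2_sp t2_st
theorem mat_t2S : mat t2S = t2M := rfl
theorem t2_pow : t2M ^ 2 = 1 := by decide +kernel

/-- An explicit matrix. -/
def t5M : Matrix (Fin 4) (Fin 4) K8 := !![c0, c0, c0, c1; c0, c0, c1, c0; c0, c1, c0, c1; c1, c0, c1, c1]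
/-- Its inverse. -/
def t5I : Matrix (Fin 4) (Fin 4) K8 := !![c1, c1, c0, c1; c1, c0, c1, c0; c0, c1, c0, c0; c1, c0, c0, c0]
theorem t5_h1 : t5M * t5I = 1 := by decide +kernel
theorem t5_h2 : t5I * t5M = 1 := by decide +kernel
theorem t5_sp : ∀ i j : Fin 4, t5M 0 i * t5M 3 j + t5M 1 i * t5M 2 j + t5M 2 i * t5M 1 j + t5M 3 i * t5M 0 j = altJ i j := by decide +kernel
theorem t5_st : star4 t5M = t5M.map (fun x => x ^ 4) := by decide +kernel
/-- An explicit element. -/
def t5S : S8 := mkS t5M t5I t5_h1 t5_h2 t5_sp t5_st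
theorem mat_t5S : mat t5S = t5M := rfl
theorem t5_pow : t5M ^ 5 = 1 := by decide +kernel

/-- An explicit matrix. -/
def z7M : Matrix (Fin 4) (Fin 4) K8 := !![c4, c0, c0, c0; c0, c5, c0, c0; c0, c0, c2, c0; c0, c0, c0, c7]
/-- Its inverse. -/
def z7I : Matrix (Fin 4) (Fin 4) K8 := !![c7, c0, c0, c0; c0, c2, c0, c0; c0, c0, c5, c0; c0, c0, c0, c4]
theorem z7_h1 : z7M * z7I = 1 := by decide +kernel
theorem z7_h2 : z7I * z7M = 1 := by decide +kernel
theorem z7_sp : ∀ i j : Fin 4, z7M 0 i * z7M 3 j + z7M 1 i * z7M 2 j + z7M 2 i * z7M 1 j + z7M 3 i * z7M 0 j = altJ i j := by decide +kernel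
theorem z7_st : star4 z7M = z7M.map (fun x => x ^ 4) := by decide +kernel
/-- An explicit element. -/
def z7S : S8 := mkS z7M z7I z7_h1 z7_h2 z7_sp z7_st
theorem mat_z7S : mat z7S = z7M := rfl
theorem z7_pow : z7M ^ 7 = 1 := by decide +kernel

/-- An explicit matrix. -/
def z13M : Matrix (Fin 4) (Fin 4) K8 := !![c0, c0, c0, c1; c0, c0, c1, c0; c0, c1, c0, c3; c1, c0, c3, c7]
/-- Its inverse. -/
def z13I : Matrix (Fin 4) (Fin 4) K8 := !![c7, c3, c0, c1; c3, c0, c1, c0; c0, c1, c0, c0; c1, c0, c0, c0]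
theorem z13_h1 : z13M * z13I = 1 := by decide +kernel
theorem z13_h2 : z13I * z13M = 1 := by decide +kernel
theorem z13_sp : ∀ i j : Fin 4, z13M 0 i * z13M 3 j + z13M 1 i * z13M 2 j + z13M 2 i * z13M 1 j + z13M 3 i * z13M 0 j = altJ i j := by decide +kernel
theorem z13_st : star4 z13M = z13M.map (fun x => x ^ 4) := by decide +kernel
/-- An explicit element. -/
def z13S : S8 := mkS z13M z13I z13_h1 z13_h2 z13_sp z13_st
theorem mat_z13S : mat z13S = z13M := rfl
theorem z13_pow : z13M ^ 13 = 1 := by decide +kernel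

/-- The orders of the elements of the Suzuki group. -/
theorem order_cases (s : S8) (hs : s ≠ 1) :
    orderOf s ∣ 64 ∨ orderOf s ∣ 7 ∨ orderOf s ∣ 13 ∨ orderOf s ∣ 5 := by
  classical
  have hF : Fintype.card K8 = 2 ^ (2 * 1 + 1) := by rw [card_eq]; norm_num
  let hc := Cfsg.Agent.Lib.Suzuki.Stab.ctx_of_card (F := K8) (m := 1) le_rfl hF
  let e := Cfsg.Agent.Lib.SzIso.Basic.equivSz hc
  let g := e.symm s
  have hg : g ≠ 1 := by
    intro h
    apply hs
    have := congrArg e h
    simpa [g] using this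
  have hord : orderOf g = orderOf s := MulEquiv.orderOf_eq e.symm s
  have hcard : Nat.card ↥(Cfsg.Sz K8 1) = 2 ^ 6 * 5 * 7 * 13 := by
    rw [Nat.card_congr e.toEquiv]
    exact card_S8
  obtain ⟨U, ⟨hU, hmem⟩, -⟩ := Cfsg.Agent.S2238.result (F := K8) (m := 1) le_rfl hF g hg
  have hd : orderOf g ∣ Nat.card U := Subgroup.orderOf_dvd_natCard U hmem
  rw [hord] at hd
  rcases hU with ⟨P, rfl⟩ | ⟨-, hc2⟩
  · left
    haveI : Fact (Nat.Prime 2) := ⟨Nat.prime_two⟩
    obtain ⟨n, hn⟩ := IsPGroup.exists_card_eq P.isPGroup'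
    have h1 : Nat.card ↥(P : Subgroup ↥(Cfsg.Sz K8 1)) ∣ 2 ^ 6 * (5 * 7 * 13) := by
      have := Subgroup.card_subgroup_dvd_card (P : Subgroup ↥(Cfsg.Sz K8 1))
      rw [hcard] at this
      simpa [mul_assoc] using this
    rw [hn] at h1 hd
    have h2 : Nat.Coprime (2 ^ n) (5 * 7 * 13) := Nat.Coprime.pow_left _ (by norm_num)
    have h3 : 2 ^ n ∣ 2 ^ 6 := h2.dvd_of_dvd_mul_right h1
    exact hd.trans h3
  · right
    simp only [Set.mem_insert_iff, Set.mem_singleton_iff] at hc2
    rcases hc2 with h | h | h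
    · left; rw [h] at hd; exact hd
    · right; left; rw [h] at hd; exact hd
    · right; right; rw [h] at hd; exact hd

theorem no_bad (s : S8) : orderOf s ≠ 26 ∧ orderOf s ≠ 35 ∧ orderOf s ≠ 65 ∧ orderOf s ≠ 91 := by
  by_cases hs : s = 1
  · subst hs
    simp
  · rcases order_cases s hs with h | h | h | h <;> refine ⟨?_, ?_, ?_, ?_⟩ <;> intro h0 <;> rw [h0] at h <;> omega

/-- Elements of `G₀` of order prime to 3 lie in the Suzuki group. -/
theorem eq_inl (g : G0) (hg : Nat.Coprime (orderOf g) 3) : g = SemidirectProduct.inl g.left := by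
  have h1 : orderOf g.right ∣ orderOf g := orderOf_map_dvd (SemidirectProduct.rightHom (φ := phi)) g
  have h2 : orderOf g.right ∣ 3 := by
    have := orderOf_dvd_natCard g.right
    rwa [card_C3] at this
  have h3 : orderOf g.right = 1 := Nat.eq_one_of_dvd_coprimes hg h1 h2
  have h4 : g.right = 1 := orderOf_eq_one_iff.mp h3
  apply SemidirectProduct.ext
  · rfl
  · rw [h4]; rfl

theorem orderOf_inl (s : S8) : orderOf (SemidirectProduct.inl s : G0) = orderOf s :=
  orderOf_injective _ SemidirectProduct.inl_injective s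

theorem no_bad_G0 (g : G0) : orderOf g ≠ 26 ∧ orderOf g ≠ 35 ∧ orderOf g ≠ 65 ∧ orderOf g ≠ 91 := by
  have key : ∀ n : ℕ, Nat.Coprime n 3 → orderOf g = n → orderOf g.left = n := by
    intro n hn h
    rw [← h] at hn
    have h1 := eq_inl g hn
    rw [← orderOf_inl, ← h1, h]
  obtain ⟨a, b, c, d⟩ := no_bad g.left
  refine ⟨fun h => a (key _ (by norm_num) h), fun h => b (key _ (by norm_num) h),
    fun h => c (key _ (by norm_num) h), fun h => d (key _ (by norm_num) h)⟩

/-- The generator of the group of order 3. -/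
def sigmaC : C3 := ⟨frob, Subgroup.mem_zpowers frob⟩

theorem orderOf_sigmaC : orderOf sigmaC = 3 := by
  rw [← orderOf_frob]
  exact Subgroup.orderOf_mk frob _

/-- The field automorphism in `G₀`. -/
def sigma : G0 := SemidirectProduct.inr sigmaC

theorem orderOf_sigma : orderOf sigma = 3 := by
  rw [← orderOf_sigmaC]
  exact orderOf_injective _ SemidirectProduct.inr_injective sigmaC

/-- Elements of `Sz(8)` with entries in the prime field of odd prime order have a fixed vector. -/
def bitK (b : Bool) : K8 := if b then c1 else c0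

/-- The inverse of `bitK` on the prime field. -/
def keyB (x : K8) : Bool := decide (x = c1)

theorem frob_fix : ∀ x : K8, frob x = x → bitK (keyB x) = x := by decide +kernel

theorem keyB_bitK : ∀ b : Bool, keyB (bitK b) = b := by decide +kernel

theorem frob_bitK : ∀ b : Bool, frob (bitK b) = bitK b := by decide +kernel

theorem vec_map (M : W) (hM : M.map frob = M) (v : Fin 4 → K8) (hv : ∀ i, frob (v i) = v i) (i : Fin 4) :
    frob ((M *ᵥ v) i) = (M *ᵥ v) i := by
  have hM' : ∀ a b, frob (M a b) = M a b := fun a b => congrFun (congrFun hM a) b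
  simp only [Matrix.mulVec, dotProduct, map_sum, map_mul, hM', hv]

/-- A prime-order element with prime-field entries fixes a non-zero vector. -/
theorem exists_fix (M : W) (hM : M.map frob = M) (q : ℕ) (hq : q.Prime) (hM1 : M ^ q = 1) (hq16 : ¬ q ∣ 15) (hq17 : ¬ q ∣ 16) :
    ∃ v : Fin 4 → K8, v ≠ 0 ∧ M *ᵥ v = v := by
  classical
  haveI : Fact q.Prime := ⟨hq⟩
  let ι : (Fin 4 → Bool) → (Fin 4 → K8) := fun b i => bitK (b i)
  let ρ : (Fin 4 → K8) → (Fin 4 → Bool) := fun x i => keyB (x i)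
  have hρι : ∀ b, ρ (ι b) = b := fun b => funext fun i => keyB_bitK _
  have hιρ : ∀ x, (∀ i, frob (x i) = x i) → ι (ρ x) = x := fun x hx => funext fun i => frob_fix _ (hx i)
  have hιf : ∀ b i, frob (ι b i) = ι b i := fun b i => frob_bitK _
  let f : Function.End (Fin 4 → Bool) := fun b => ρ (M *ᵥ ι b)
  have hfι : ∀ b, ι (f b) = M *ᵥ ι b := fun b => hιρ _ (vec_map M hM _ (hιf b))
  have hpow : ∀ (n : ℕ) b, ι ((f ^ n) b) = (M ^ n) *ᵥ ι b := by
    intro n b
    induction n with
    | zero =>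
      rw [pow_zero, pow_zero, Matrix.one_mulVec]
      rfl
    | succ n ih =>
      have h : (f ^ (n + 1)) b = f ((f ^ n) b) := by
        rw [pow_succ']
        rfl
      rw [h, hfι, ih, Matrix.mulVec_mulVec, pow_succ']
  have hιinj : Function.Injective ι := fun a b h => by rw [← hρι a, h, hρι b]
  have hf1 : f ^ q ^ 1 = 1 := by
    funext b
    apply hιinj
    rw [pow_one, hpow, hM1, Matrix.one_mulVec]
    rfl
  have hcong := Equiv.Perm.card_fixedPoints_modEq (f := f) (p := q) (n := 1) hf1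
  have hcard : Fintype.card (Fin 4 → Bool) = 16 := by simp
  rw [hcard] at hcong
  -- the zero vector is fixed, so another is
  by_contra hno
  push Not at hno
  have h1 : f.fixedPoints = {fun _ => false} := by
    ext b
    simp only [Set.mem_singleton_iff]
    constructor
    · intro hb
      by_contra hne
      have hb' : f b = b := hb
      have h2 := hfι b
      rw [hb'] at h2
      refine hno (ι b) ?_ h2.symm
      intro h0
      apply hne
      apply hιinj
      rw [h0]
      funext i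
      simp [ι, bitK]
      rfl
    · rintro rfl
      show f _ = _
      apply hιinj
      rw [hfι]
      have : ι (fun _ => false) = 0 := by
        funext i
        simp [ι, bitK]
        rfl
      rw [this, Matrix.mulVec_zero]
  have h3 : Fintype.card f.fixedPoints = 1 := by
    rw [Fintype.card_eq_one_iff]
    refine ⟨⟨fun _ => false, by rw [h1]; rfl⟩, ?_⟩
    rintro ⟨y, hy⟩
    apply Subtype.ext
    rw [h1] at hy
    exact hy
  rw [h3] at hcong
  have h4 : q ∣ 15 := (Nat.modEq_iff_dvd' (by norm_num)).mp hcong.symm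
  exact hq16 h4

/-- `Sz(8)` has no element of prime order 7 or 13 with prime-field entries. -/
theorem no_frob_fixed (s : S8) (hs : (mat s).map frob = mat s) (q : ℕ) (hq : q.Prime) (hq2 : orderOf s = q)
    (hq16 : ¬ q ∣ 15) (hq17 : ¬ q ∣ 16) : False := by
  have h1 : mat s ^ q = 1 := by
    rw [← mat_pow, ← hq2, pow_orderOf_eq_one, mat_one]
  obtain ⟨v, hv0, hv⟩ := exists_fix _ hs q hq h1 hq16 hq17
  have hf : ∀ x : K8, (sq : K8 → K8) (sq x) = x ^ 4 := by decide +kernel
  let θ : K8 →+* K8 := ((frob.trans frob : K8 ≃+* K8) : K8 →+* K8)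
  have hθ : ∀ x, θ x = x ^ 4 := by
    intro x
    exact hf x
  have hmem := Cfsg.Agent.Lib.PrimeGraph.Suzuki.mem_good (F := K8) two_eq_zero 4 θ hθ s.2
  have h4 := Cfsg.Agent.Lib.PrimeGraph.Suzuki.pow_four_eq_one (F := K8) two_eq_zero θ hmem.1
    (by
      rw [hmem.2]
      ext i j
      exact (hθ _).symm) hv0 hv
  have h5 : s ^ 4 = 1 := by
    apply matHom_inj
    rw [map_pow, map_one]
    exact h4
  have h6 : q ∣ 4 := by
    rw [← hq2]
    exact orderOf_dvd_of_pow_eq_one h5
  apply hq17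
  exact h6.trans (by norm_num)

/-- `G₀` has no element of order `3 * q` for `q = 7, 13`. -/
theorem no_3q (q : ℕ) (hq : q.Prime) (hq16 : ¬ q ∣ 15) (hq17 : ¬ q ∣ 16) (g : G0) (hg : orderOf g = 3 * q) : False := by
  have hq3 : Nat.Coprime q 3 := by
    rw [Nat.coprime_primes hq Nat.prime_three]
    rintro rfl
    exact hq16 (by norm_num)
  have h1 : orderOf (g ^ 3) = q := by
    rw [orderOf_pow_of_dvd (by norm_num) (by rw [hg]; exact Dvd.intro _ rfl), hg]
    exact Nat.mul_div_cancel_left _ (by norm_num)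
  have h2 : orderOf (g ^ q) = 3 := by
    rw [orderOf_pow_of_dvd hq.ne_zero (by rw [hg]; exact Dvd.intro_left _ rfl), hg]
    exact Nat.mul_div_cancel _ hq.pos
  have hcard : ¬ (3 ^ 2 ∣ Nat.card G0) := by
    rw [card_G0]
    norm_num
  obtain ⟨c, k, hc⟩ := Cfsg.Agent.Lib.PrimeGraph.Lift2.exists_conj_pow 3 Nat.prime_three hcard sigma (g ^ q)
    orderOf_sigma h2
  let y : G0 := c * g ^ 3 * c⁻¹
  have hy : orderOf y = q := by
    rw [← h1]
    exact orderOf_injective (MulAut.conj c).toMonoidHom (MulAut.conj c).injective _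
  have hcomm : Commute y sigma := by
    rw [← hc]
    have h3 : Commute (g ^ 3) ((g ^ q) ^ k) := ((Commute.refl g).pow_pow 3 q).pow_right k
    exact h3.map (MulAut.conj c).toMonoidHom
  have hy2 : y = SemidirectProduct.inl y.left := eq_inl y (by rwa [hy])
  have hy3 : orderOf y.left = q := by
    rw [← hy, ← orderOf_inl, ← hy2]
  have h4 : phi sigmaC y.left = y.left := by
    apply SemidirectProduct.inl_injective (φ := phi)
    rw [SemidirectProduct.inl_aut, ← hy2, map_inv]
    show sigma * y * sigma⁻¹ = y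
    rw [← hcomm.eq, mul_inv_cancel_right]
  have h5 : (mat y.left).map frob = mat y.left := by
    have := congrArg mat h4
    exact this
  exact no_frob_fixed _ h5 q hq hy3 hq16 hq17

/-- The element of order 13. -/
def z13G : G0 := SemidirectProduct.inl z13S

theorem orderOf_z13S : orderOf z13S = 13 := by
  haveI : Fact (Nat.Prime 13) := ⟨by norm_num⟩
  rw [← orderOf_injective matHom matHom_inj]
  exact orderOf_eq_prime z13_pow (by decide +kernel)

theorem orderOf_t2S : orderOf t2S = 2 := by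
  haveI : Fact (Nat.Prime 2) := ⟨by norm_num⟩
  rw [← orderOf_injective matHom matHom_inj]
  exact orderOf_eq_prime t2_pow (by decide +kernel)

theorem orderOf_t5S : orderOf t5S = 5 := by
  haveI : Fact (Nat.Prime 5) := ⟨by norm_num⟩
  rw [← orderOf_injective matHom matHom_inj]
  exact orderOf_eq_prime t5_pow (by decide +kernel)

theorem orderOf_z7S : orderOf z7S = 7 := by
  haveI : Fact (Nat.Prime 7) := ⟨by norm_num⟩
  rw [← orderOf_injective matHom matHom_inj]
  exact orderOf_eq_prime z7_pow (by decide +kernel)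

theorem act_inl (s : S8) (M : W) : act (SemidirectProduct.inl s) M = mat s * M * ((mat s).map frob)ᵀ := by
  unfold act
  have h1 : (SemidirectProduct.inl s : G0).right = 1 := rfl
  have h2 : (SemidirectProduct.inl s : G0).left = s := rfl
  rw [h1, h2]
  congr 2

theorem act_pow_fix (x : G0) (w : W) (h : act x w = w) (n : ℕ) : act (x ^ n) w = w := by
  induction n with
  | zero => simp [act_one]
  | succ n ih => rw [pow_succ, act_mul, h, ih]

/-- The twisted matrix of the element of order 13. -/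
def z13T : W := (z13M.map frob)ᵀ

theorem norm_zero : ∀ i j a b : Fin 4, ∑ k : Fin 13, (z13M ^ (k : ℕ)) i a * (z13T ^ (k : ℕ)) b j = 0 := by
  decide +kernel

theorem z13_no_fix (w : W) (h : z13M * w * z13T = w) : w = 0 := by
  have h1 : ∀ n : ℕ, z13M ^ n * w * z13T ^ n = w := by
    intro n
    induction n with
    | zero => simp
    | succ n ih =>
      calc z13M ^ (n + 1) * w * z13T ^ (n + 1) = z13M ^ n * (z13M * w * z13T) * z13T ^ n := by
            rw [pow_succ, pow_succ']
            simp only [Matrix.mul_assoc]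
        _ = w := by rw [h, ih]
  have h2 : ∑ k : Fin 13, z13M ^ (k : ℕ) * w * z13T ^ (k : ℕ) = 13 • w := by
    simp [h1]
  have h3 : ∑ k : Fin 13, z13M ^ (k : ℕ) * w * z13T ^ (k : ℕ) = 0 := by
    ext i j
    simp only [Matrix.sum_apply, Matrix.mul_apply, Matrix.zero_apply, Finset.sum_mul, Finset.mul_sum]
    have : ∀ k : Fin 13, ∑ x, ∑ y, (z13M ^ (k : ℕ)) i y * w y x * (z13T ^ (k : ℕ)) x j
        = ∑ x, ∑ y, w y x * ((z13M ^ (k : ℕ)) i y * (z13T ^ (k : ℕ)) x j) := by
      intro k
      refine Finset.sum_congr rfl fun x _ => Finset.sum_congr rfl fun y _ => by ring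
    simp only [this]
    rw [Finset.sum_comm]
    refine Finset.sum_eq_zero fun x _ => ?_
    rw [Finset.sum_comm]
    refine Finset.sum_eq_zero fun y _ => ?_
    rw [← Finset.mul_sum, norm_zero, mul_zero]
  rw [h3] at h2
  have h5 : (13 : ℕ) • w = w + 6 • (2 • w) := by abel
  rw [two_smul_W, smul_zero, add_zero] at h5
  rw [← h5, ← h2]

/-- The group of order 3 acts without fixed vectors in order 13. -/
theorem no_fix_13 (y : G0) (hy : orderOf y = 13) (w : W) (h : act y w = w) : w = 0 := by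
  have hz : orderOf z13G = 13 := by
    rw [z13G, orderOf_inl, orderOf_z13S]
  have hcard : ¬ (13 ^ 2 ∣ Nat.card G0) := by
    rw [card_G0]
    norm_num
  obtain ⟨c, k, hc⟩ := Cfsg.Agent.Lib.PrimeGraph.Lift2.exists_conj_pow 13 (by norm_num) hcard y z13G hy hz
  let w' := act c⁻¹ w
  have hinv : ∀ X, act c⁻¹ (act c X) = X := by
    intro X
    rw [← act_mul, inv_mul_cancel, act_one]
  have hinv2 : ∀ X, act c (act c⁻¹ X) = X := by
    intro X
    rw [← act_mul, mul_inv_cancel, act_one]
  have h1 : act (z13G ^ k) w' = w' := by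
    have h2 : act c (act (z13G ^ k) w') = w := by
      rw [← act_mul]
      show act (c * z13G ^ k) (act c⁻¹ w) = w
      rw [← act_mul, hc, h]
    calc act (z13G ^ k) w' = act c⁻¹ (act c (act (z13G ^ k) w')) := (hinv _).symm
      _ = w' := by rw [h2]
  have h3 : orderOf (z13G ^ k) = 13 := by
    rw [← hy, ← hc]
    exact (orderOf_injective (MulAut.conj c).toMonoidHom (MulAut.conj c).injective _).symm
  have h4 : Nat.Coprime k 13 := by
    have h13 : Nat.Prime 13 := by norm_num
    rw [Nat.coprime_comm, h13.coprime_iff_not_dvd]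
    intro hd
    have h5 : z13G ^ k = 1 := by
      obtain ⟨m, rfl⟩ := hd
      rw [pow_mul, ← hz, pow_orderOf_eq_one, one_pow]
    rw [h5, orderOf_one] at h3
    omega
  obtain ⟨l, hl⟩ := Nat.exists_mul_mod_eq_one_of_coprime h4 (by norm_num)
  have h6 : (z13G ^ k) ^ l = z13G := by
    rw [← pow_mul, ← pow_mod_orderOf, hz, hl.2, pow_one]
  have h7 : act z13G w' = w' := by
    have := act_pow_fix _ _ h1 l
    rwa [h6] at this
  have h8 : z13M * w' * z13T = w' := by
    have := h7
    rw [z13G, act_inl] at this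
    exact this
  have h9 : w' = 0 := z13_no_fix _ h8
  rw [← hinv2 w]
  show act c w' = 0
  rw [h9]
  unfold act
  ext i j
  simp

theorem comm_sigma (s : S8) (hs : (mat s).map frob = mat s) :
    Commute (SemidirectProduct.inl s : G0) sigma := by
  have h1 : phi sigmaC s = s := by
    apply matHom_inj
    exact hs
  have h2 := SemidirectProduct.inl_aut (φ := phi) sigmaC s
  rw [h1, map_inv] at h2
  have h3 : (SemidirectProduct.inl s : G0) = sigma * (SemidirectProduct.inl s : G0) * sigma⁻¹ := h2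
  have h4 : (SemidirectProduct.inl s : G0) * sigma = sigma * SemidirectProduct.inl s := by
    nth_rw 1 [h3]
    rw [inv_mul_cancel_right]
  exact h4

theorem t2_fr : t2M.map frob = t2M := by decide +kernel
theorem t5_fr : t5M.map frob = t5M := by decide +kernel

theorem exists_order_6 : ∃ x : G0, orderOf x = 6 := by
  refine ⟨SemidirectProduct.inl t2S * sigma, ?_⟩
  rw [(comm_sigma t2S t2_fr).orderOf_mul_eq_mul_orderOf_of_coprime (by
    rw [orderOf_inl, orderOf_t2S, orderOf_sigma]; norm_num), orderOf_inl, orderOf_t2S, orderOf_sigma]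

theorem exists_order_15 : ∃ x : G0, orderOf x = 15 := by
  refine ⟨SemidirectProduct.inl t5S * sigma, ?_⟩
  rw [(comm_sigma t5S t5_fr).orderOf_mul_eq_mul_orderOf_of_coprime (by
    rw [orderOf_inl, orderOf_t5S, orderOf_sigma]; norm_num), orderOf_inl, orderOf_t5S, orderOf_sigma]

/-- A non-zero vector fixed by the element of order 5. -/
def Jm : W := !![c0, c0, c0, c1; c0, c0, c1, c0; c0, c1, c0, c0; c1, c0, c0, c0]

/-- A non-zero vector fixed by the element of order 7. -/
def Em : W := !![c0, c1, c0, c0; c0, c0, c0, c0; c0, c0, c0, c0; c0, c0, c0, c0]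

theorem Jm_ne : Jm ≠ 0 := by decide +kernel
theorem Em_ne : Em ≠ 0 := by decide +kernel
theorem t5_Jm : t5M * Jm * (t5M.map frob)ᵀ = Jm := by decide +kernel
theorem z7_Em : z7M * Em * (z7M.map frob)ᵀ = Em := by decide +kernel

theorem prime_dvd_G0 (l : ℕ) (hl : l.Prime) :
    l ∣ Nat.card G0 ↔ l = 2 ∨ l = 3 ∨ l = 5 ∨ l = 7 ∨ l = 13 := by
  rw [card_G0]
  constructor
  · intro h
    rcases (Nat.Prime.dvd_mul hl).mp h with h | h
    · rcases (Nat.Prime.dvd_mul hl).mp h with h | h
      · rcases (Nat.Prime.dvd_mul hl).mp h with h | h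
        · rcases (Nat.Prime.dvd_mul hl).mp h with h | h
          · left
            exact (Nat.prime_dvd_prime_iff_eq hl (by norm_num)).mp (hl.dvd_of_dvd_pow h)
          · right; left
            exact (Nat.prime_dvd_prime_iff_eq hl (by norm_num)).mp h
        · right; right; left
          exact (Nat.prime_dvd_prime_iff_eq hl (by norm_num)).mp h
      · right; right; right; left
        exact (Nat.prime_dvd_prime_iff_eq hl (by norm_num)).mp h
    · right; right; right; right
      exact (Nat.prime_dvd_prime_iff_eq hl (by norm_num)).mp h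
  · rintro (rfl | rfl | rfl | rfl | rfl) <;> norm_num

instance : Finite W := inferInstanceAs (Finite (Fin 4 → Fin 4 → K8))

/-- The groups with the prime graph with edges `2-3, 2-5, 2-7, 3-5` on `2, 3, 5, 7, 13`. -/
theorem exists_H (N : ℕ) : ∃ (H : Type) (_ : Group H) (_ : Finite H), N < Nat.card H ∧
    (∀ l : ℕ, l.Prime → (l ∣ Nat.card H ↔ l = 2 ∨ l = 3 ∨ l = 5 ∨ l = 7 ∨ l = 13)) ∧
    (∀ r q : ℕ, r.Prime → q.Prime → r ≠ q →
      ((∃ y : H, orderOf y = r * q) ↔ (r * q = 6 ∨ r * q = 10 ∨ r * q = 14 ∨ r * q = 15))) := by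
  obtain ⟨H, i1, i2, hN, hP, hE⟩ := Cfsg.Agent.Lib.PrimeGraph.Lift4.exists_family (S := G0) (V := W) act act_one
    act_mul act_add 2 Nat.prime_two two_smul_W ⟨Jm, Jm_ne⟩ N
  refine ⟨H, i1, i2, hN, ?_, ?_⟩
  · intro l hl
    rw [hP l hl, prime_dvd_G0 l hl]
    constructor
    · rintro (h | h)
      · exact Or.inl h
      · exact h
    · intro h
      exact Or.inr h
  · intro r q hr hq hrq
    rw [hE r q hr hq hrq]
    have h13 : Nat.Prime 13 := by norm_num
    have h7 : Nat.Prime 7 := by norm_num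
    constructor
    · rintro (⟨x, hx⟩ | ⟨y, hy, hy2, hy3, w, hw0, hw⟩)
      · have hrd : r ∣ Nat.card G0 := (Dvd.intro _ hx.symm).trans (orderOf_dvd_natCard x)
        have hqd : q ∣ Nat.card G0 := (Dvd.intro_left _ hx.symm).trans (orderOf_dvd_natCard x)
        rw [prime_dvd_G0 r hr] at hrd
        rw [prime_dvd_G0 q hq] at hqd
        obtain ⟨a, b, c, d⟩ := no_bad_G0 x
        have e1 : r * q ≠ 21 := by
          intro h0
          rw [h0] at hx
          exact no_3q 7 h7 (by norm_num) (by norm_num) x hx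
        have e2 : r * q ≠ 39 := by
          intro h0
          rw [h0] at hx
          exact no_3q 13 h13 (by norm_num) (by norm_num) x hx
        rw [hx] at a b c d
        rcases hrd with rfl | rfl | rfl | rfl | rfl <;> rcases hqd with rfl | rfl | rfl | rfl | rfl <;> omega
      · have ho : orderOf y ∣ Nat.card G0 := orderOf_dvd_natCard y
        rw [prime_dvd_G0 _ hy] at ho
        have h13' : orderOf y ≠ 13 := fun h => hw0 (no_fix_13 y h w hw)
        omega
    · rintro (h | h | h | h)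
      · obtain ⟨x, hx⟩ := exists_order_6
        exact Or.inl ⟨x, by rw [hx, h]⟩
      · refine Or.inr ⟨SemidirectProduct.inl t5S, ?_, ?_, ?_, Jm, Jm_ne, ?_⟩
        · rw [orderOf_inl, orderOf_t5S]; norm_num
        · rw [orderOf_inl, orderOf_t5S]; norm_num
        · rw [orderOf_inl, orderOf_t5S, h]
        · rw [act_inl]; exact t5_Jm
      · refine Or.inr ⟨SemidirectProduct.inl z7S, ?_, ?_, ?_, Em, Em_ne, ?_⟩
        · rw [orderOf_inl, orderOf_z7S]; norm_num
        · rw [orderOf_inl, orderOf_z7S]; norm_num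
        · rw [orderOf_inl, orderOf_z7S, h]
        · rw [act_inl]; exact z7_Em
      · obtain ⟨x, hx⟩ := exists_order_15
        exact Or.inl ⟨x, by rw [hx, h]⟩

end Cfsg.Agent.Lib.PrimeGraph.Sz8Ext
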