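/-
Three levels lemma: `K ≤ M` normal in `G`, primes `p, q, r` dividing `|K|, |M/K|, |G/M|`
give an element of order `pq`, `pr` or `qr`.
-/
import Cfsg.Agent.Lib.PrimeGraph.FrobSum

set_option autoImplicit false

namespace Cfsg.Agent.Lib.PrimeGraph.ThreeLevels

open Cfsg.Agent.Lib.PrimeGraph.FrobSum

variable {G : Type*} [Group G]

/-- commuting elements whose orders are multiples of distinct primes. -/
theorem exists_orderOf_mul_of_commute [Finite G] {s t : ℕ} (hs : s.Prime) (ht : t.Prime)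
    (hst : s ≠ t) {a b : G} (ha : s ∣ orderOf a) (hb : t ∣ orderOf b) (hab : Commute a b) :
    ∃ x : G, orderOf x = s * t := by
  have h1 : orderOf (a ^ (orderOf a / s)) = s :=
    orderOf_pow_orderOf_div (orderOf_pos a).ne' ha
  have h2 : orderOf (b ^ (orderOf b / t)) = t :=
    orderOf_pow_orderOf_div (orderOf_pos b).ne' hb
  refine ⟨a ^ (orderOf a / s) * b ^ (orderOf b / t), ?_⟩
  rw [(hab.pow_pow _ _).orderOf_mul_eq_mul_orderOf_of_coprime, h1, h2]
  rw [h1, h2]
  exact (Nat.coprime_primes hs ht).mpr hst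

theorem dvd_orderOf_of_isPGroup [Finite G] {s : ℕ} (hs : s.Prime) {Q : Subgroup G}
    (hQ : IsPGroup s Q) {a : G} (ha : a ∈ Q) (ha1 : a ≠ 1) : s ∣ orderOf a := by
  haveI := Fact.mk hs
  obtain ⟨k, hk⟩ := (IsPGroup.iff_orderOf.mp hQ) ⟨a, ha⟩
  rw [Subgroup.orderOf_mk] at hk
  rw [hk]
  rcases k with _ | k
  · rw [pow_zero, orderOf_eq_one_iff] at hk
    exact absurd hk ha1
  · exact dvd_pow_self s (by omega)

/-- Frattini and Cauchy. -/
theorem exists_frattini_cauchy {X : Type*} [Group X] [Finite X] (N : Subgroup X) [N.Normal]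
    {t s : ℕ} (ht : t.Prime) (hs : s.Prime) (htN : t ∣ Nat.card N) (hsN : s ∣ N.index) :
    ∃ Q : Subgroup X, Q ≠ ⊥ ∧ IsPGroup t Q ∧ ∃ y : X, orderOf y = s ∧
      y ∈ Subgroup.normalizer (Q : Set X) := by
  haveI := Fact.mk ht
  haveI := Fact.mk hs
  obtain ⟨a, ha⟩ := exists_prime_orderOf_dvd_card' t htN
  have hap : IsPGroup t (Subgroup.zpowers a) := by
    rw [IsPGroup.iff_card]
    exact ⟨1, by rw [Nat.card_zpowers, ha, pow_one]⟩
  obtain ⟨P, hP⟩ := hap.exists_le_sylow
  let Q : Subgroup X := (P : Subgroup N).map N.subtype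
  have hQ : IsPGroup t Q := by
    exact (P.isPGroup').map _
  have hQ1 : Q ≠ ⊥ := by
    intro h
    have h1 : a ∈ (P : Subgroup N) := hP (Subgroup.mem_zpowers a)
    have h2 : ((a : N) : X) ∈ Q := Subgroup.mem_map_of_mem _ h1
    rw [h, Subgroup.mem_bot] at h2
    have : a = 1 := Subtype.ext h2
    rw [this, orderOf_one] at ha
    exact ht.one_lt.ne ha
  have hsup := Sylow.normalizer_sup_eq_top P
  have hidx : N.index = N.relIndex (Subgroup.normalizer (Q : Set X)) := by
    rw [← Subgroup.relIndex_sup_right, show Subgroup.normalizer (Q : Set X) ⊔ N = ⊤ from hsup,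
      Subgroup.relIndex_top_right]
  have hd : s ∣ Nat.card (Subgroup.normalizer (Q : Set X)) := by
    rw [hidx] at hsN
    exact hsN.trans (Subgroup.relIndex_dvd_card _ _)
  obtain ⟨y, hy⟩ := exists_prime_orderOf_dvd_card' s hd
  refine ⟨Q, hQ1, hQ, y, ?_, y.2⟩
  rwa [Subgroup.orderOf_coe]

theorem normalizer_le_normalizer_inf_centralizer (P : Subgroup G) :
    Subgroup.normalizer (P : Set G) ≤
      Subgroup.normalizer ((P ⊓ Subgroup.centralizer (P : Set G) : Subgroup G) : Set G) := by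
  intro g hg
  rw [Subgroup.mem_normalizer_iff]
  intro h
  have hgP : ∀ x, x ∈ P ↔ g * x * g⁻¹ ∈ P := (Subgroup.mem_normalizer_iff.mp hg)
  constructor
  · intro hh
    obtain ⟨h1, h2⟩ := Subgroup.mem_inf.mp hh
    refine Subgroup.mem_inf.mpr ⟨(hgP h).mp h1, ?_⟩
    rw [Subgroup.mem_centralizer_iff] at h2 ⊢
    intro x hx
    have hx' : g⁻¹ * x * g ∈ P := by
      have := (hgP (g⁻¹ * x * g)).mpr (by simpa [mul_assoc] using hx)
      exact this
    have := h2 _ hx'
    calc x * (g * h * g⁻¹) = g * ((g⁻¹ * x * g) * h) * g⁻¹ := by group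
      _ = g * (h * (g⁻¹ * x * g)) * g⁻¹ := by rw [this]
      _ = (g * h * g⁻¹) * x := by group
  · intro hh
    obtain ⟨h1, h2⟩ := Subgroup.mem_inf.mp hh
    refine Subgroup.mem_inf.mpr ⟨(hgP h).mpr h1, ?_⟩
    rw [Subgroup.mem_centralizer_iff] at h2 ⊢
    intro x hx
    have hx' : g * x * g⁻¹ ∈ P := (hgP x).mp hx
    have := h2 _ hx'
    have e : x * h = g⁻¹ * ((g * x * g⁻¹) * (g * h * g⁻¹)) * g := by group
    rw [e, this]
    group

theorem exists_mem_inf_centralizer [Finite G] {p : ℕ} [Fact p.Prime] (P : Subgroup G)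
    (hPp : IsPGroup p P) (hP1 : P ≠ ⊥) :
    ∃ v ∈ P ⊓ Subgroup.centralizer (P : Set G), v ≠ 1 := by
  haveI : Nontrivial P := (Subgroup.nontrivial_iff_ne_bot P).mpr hP1
  obtain ⟨c, hc⟩ : ∃ c : Subgroup.center P, c ≠ 1 := by
    haveI := hPp.center_nontrivial
    exact exists_ne 1
  refine ⟨((c : P) : G), Subgroup.mem_inf.mpr ⟨(c : P).2, ?_⟩, ?_⟩
  · rw [Subgroup.mem_centralizer_iff]
    intro h hh
    have := (Subgroup.mem_center_iff.mp c.2) ⟨h, hh⟩
    exact congrArg Subtype.val this
  · intro h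
    apply hc
    apply Subtype.ext
    apply Subtype.ext
    exact h

theorem main [Finite G] (K M : Subgroup G) [K.Normal] [M.Normal] (hKM : K ≤ M)
    {p q r : ℕ} (hp : p.Prime) (hq : q.Prime) (hr : r.Prime) (hpq : p ≠ q) (hpr : p ≠ r) (hqr : q ≠ r)
    (hpK : p ∣ Nat.card K) (hqM : q ∣ K.relIndex M) (hrG : r ∣ M.index) :
    (∃ x : G, orderOf x = p * q) ∨ (∃ x : G, orderOf x = p * r) ∨ (∃ x : G, orderOf x = q * r) := by
  classical
  by_contra hcon
  push Not at hcon
  obtain ⟨hc1, hc2, hc3⟩ := hcon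
  haveI := Fact.mk hp
  haveI := Fact.mk hq
  haveI := Fact.mk hr
  -- Sylow `p`-subgroup of `K`, and Frattini
  obtain ⟨a0, ha0⟩ := exists_prime_orderOf_dvd_card' p hpK
  have hap : IsPGroup p (Subgroup.zpowers a0) := by
    rw [IsPGroup.iff_card]
    exact ⟨1, by rw [Nat.card_zpowers, ha0, pow_one]⟩
  obtain ⟨P0, hP0⟩ := hap.exists_le_sylow
  let P : Subgroup G := (P0 : Subgroup K).map K.subtype
  have hPp : IsPGroup p P := (P0.isPGroup').map _
  have hP1 : P ≠ ⊥ := by
    intro hb
    have h2 : (a0 : G) ∈ P := Subgroup.mem_map_of_mem _ (hP0 (Subgroup.mem_zpowers a0))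
    rw [hb, Subgroup.mem_bot] at h2
    have : a0 = 1 := Subtype.ext h2
    rw [this, orderOf_one] at ha0
    exact hp.one_lt.ne ha0
  have hsup : Subgroup.normalizer (P : Set G) ⊔ K = ⊤ := Sylow.normalizer_sup_eq_top P0
  set L : Subgroup G := Subgroup.normalizer (P : Set G) with hL
  -- the abelian normal subgroup `V`
  let V : Subgroup G := P ⊓ Subgroup.centralizer (P : Set G)
  have hVP : V ≤ P := inf_le_left
  have hVc : ∀ a ∈ V, ∀ b ∈ V, a * b = b * a := by
    intro a ha b hb
    have := (Subgroup.mem_centralizer_iff.mp (Subgroup.mem_inf.mp hb).2) a (Subgroup.mem_inf.mp ha).1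
    exact this
  obtain ⟨v0, hv0V, hv01⟩ : ∃ v ∈ V, v ≠ 1 := exists_mem_inf_centralizer P hPp hP1
  have hLV : L ≤ Subgroup.normalizer (V : Set G) := normalizer_le_normalizer_inf_centralizer P
  -- indices
  have hML : M.relIndex L = M.index := by
    have hMsup : L ⊔ M = ⊤ := by
      rw [eq_top_iff, ← hsup]
      exact sup_le_sup_left hKM _
    rw [← Subgroup.relIndex_sup_right, hMsup, Subgroup.relIndex_top_right]
  have hqL : q ∣ Nat.card (M.subgroupOf L) := by
    -- `M = K (M ∩ L)`
    have h1 : K.relIndex M = K.relIndex (M ⊓ L) := by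
      have h2 : (M ⊓ L) ⊔ K = M := by
        apply le_antisymm
        · exact sup_le inf_le_left hKM
        · intro x hx
          have hxtop : x ∈ ((L ⊔ K : Subgroup G) : Set G) := by rw [hsup]; exact Subgroup.mem_top x
          rw [Subgroup.mul_normal] at hxtop
          obtain ⟨l, hl, k, hk, rfl⟩ := Set.mem_mul.mp hxtop
          have : l ∈ M := by
            have := M.mul_mem hx (M.inv_mem (hKM hk))
            simpa using this
          exact Subgroup.mul_mem_sup ⟨this, hl⟩ hk
      conv_lhs => rw [← h2]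
      rw [Subgroup.relIndex_sup_right]
    rw [h1] at hqM
    have h3 : q ∣ Nat.card (M ⊓ L : Subgroup G) := hqM.trans (Subgroup.relIndex_dvd_card _ _)
    have h4 : Nat.card (M.subgroupOf L) = Nat.card (M ⊓ L : Subgroup G) := by
      rw [Subgroup.subgroupOf, ← Subgroup.card_map_of_injective L.subtype_injective,
        Subgroup.map_comap_eq, Subgroup.range_subtype, inf_comm]
    rwa [h4]
  have hrL : r ∣ (M.subgroupOf L).index := by
    have : (M.subgroupOf L).index = M.relIndex L := rfl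
    rw [this, hML]
    exact hrG
  obtain ⟨Q, hQ1, hQp, y, hyr, hyQ⟩ := exists_frattini_cauchy (M.subgroupOf L) hq hr hqL hrL
  -- the action
  letI cg : CommGroup V :=
    { (inferInstance : Group V) with
      mul_comm := fun a b => Subtype.ext (hVc a a.2 b b.2) }
  let φ : L →* MulAut V := (V.normalizerMonoidHom).comp (Subgroup.inclusion hLV)
  have hφ : ∀ (l : L) (v : V), ((φ l v : V) : G) = l * v * (l : G)⁻¹ := fun l v => rfl
  obtain ⟨a1, ha1Q, ha11⟩ : ∃ a ∈ Q, a ≠ 1 := by
    by_contra hall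
    push Not at hall
    exact hQ1 ((Subgroup.eq_bot_iff_forall _).mpr hall)
  have hfin : ∀ w : V, w ^ (Nat.card Q) = 1 := by
    apply pow_card_eq_one_of_fpf φ Q y r hr (by rw [← hyr]; exact pow_orderOf_eq_one y)
    · intro a ha
      have := (Subgroup.mem_normalizer_iff.mp hyQ a).mp ha
      exact this
    · exact ⟨a1, ha1Q, ha11⟩
    · -- `Q` fixed-point-free
      intro a ha ha1 v hv
      by_contra hv1
      have hav : Commute (a : G) (v : G) := by
        have h2 : (a : G) * v * (a : G)⁻¹ = v := by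
          rw [← hφ, hv]
        show (a : G) * v = v * a
        calc (a : G) * v = ((a : G) * v * (a : G)⁻¹) * a := by group
          _ = v * a := by rw [h2]
      have hh1 := dvd_orderOf_of_isPGroup hq (Q := Q.map L.subtype) (hQp.map _)
        (Subgroup.mem_map_of_mem _ ha) (by simpa using ha1)
      have hh2 := dvd_orderOf_of_isPGroup hp hPp (hVP v.2)
        (by simpa using hv1)
      obtain ⟨x, hx⟩ := exists_orderOf_mul_of_commute hq hp hpq.symm hh1 hh2 hav
      exact hc1 x (by rw [hx, mul_comm])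
    · -- `y` fixed-point-free on `Q`
      intro a ha hya
      by_contra ha1
      have hh1 := dvd_orderOf_of_isPGroup hq hQp ha ha1
      have hh2 : r ∣ orderOf y := by rw [hyr]
      have hcomm : Commute a y := by
        show a * y = y * a
        calc a * y = (y * a * y⁻¹) * y := by rw [hya]
          _ = y * a := by group
      obtain ⟨x, hx⟩ := exists_orderOf_mul_of_commute hq hr hqr hh1 hh2 hcomm
      exact hc3 (x : G) (by rw [Subgroup.orderOf_coe, hx])
    · -- `y` fixed-point-free on `V`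
      intro v hv
      by_contra hv1
      have hav : Commute (v : G) (y : G) := by
        have h2 : (y : G) * v * (y : G)⁻¹ = v := by
          rw [← hφ, hv]
        symm
        show (y : G) * v = v * y
        calc (y : G) * v = ((y : G) * v * (y : G)⁻¹) * y := by group
          _ = v * y := by rw [h2]
      have hh2 := dvd_orderOf_of_isPGroup hp hPp (hVP v.2)
        (by simpa using hv1)
      have hh1 : r ∣ orderOf (y : G) := by rw [Subgroup.orderOf_coe, hyr]
      obtain ⟨x, hx⟩ := exists_orderOf_mul_of_commute hp hr hpr hh2 hh1 hav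
      exact hc2 x hx
  have h0 := hfin ⟨v0, hv0V⟩
  have h1 : v0 ^ (Nat.card Q) = 1 := congrArg Subtype.val h0
  have h2 : p ∣ orderOf v0 := dvd_orderOf_of_isPGroup hp hPp (hVP hv0V) hv01
  have h3 : p ∣ Nat.card Q := h2.trans (orderOf_dvd_of_pow_eq_one h1)
  obtain ⟨k, hk⟩ := IsPGroup.iff_card.mp hQp
  rw [hk] at h3
  exact hpq ((Nat.prime_dvd_prime_iff_eq hp hq).mp (hp.dvd_of_dvd_pow h3))

end Cfsg.Agent.Lib.PrimeGraph.ThreeLevels
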